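/-
Counting classes by representatives with bounds on their centralisers.
-/
import Mathlib

set_option autoImplicit false
set_option linter.style.haveILetI false

namespace CfsgLib.J4Classes

open Subgroup

universe u

variable {G : Type u} [Group G]

/-- Elements of order `n`, pairwise not conjugate, one for each bound on the order of a centraliser. -/
def Sec (G : Type u) [Group G] (n : ℕ) (cs : List ℕ) : Prop :=
  ∃ f : Fin cs.length → G, (∀ i, orderOf (f i) = n) ∧
    (∀ i, Nat.card (centralizer ({f i} : Set G)) ≤ cs.get i) ∧ ∀ i j, IsConj (f i) (f j) → i = j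

theorem isConj_order {x y : G} (h : IsConj x y) : orderOf x = orderOf y := by
  obtain ⟨g, rfl⟩ := isConj_iff.mp h
  exact ((MulAut.conj g).orderOf_eq x).symm

/-- Conjugate elements have conjugate powers. -/
theorem isConj_pow {x y : G} (h : IsConj x y) (k : ℕ) : IsConj (x ^ k) (y ^ k) := by
  obtain ⟨g, rfl⟩ := isConj_iff.mp h
  exact isConj_iff.mpr ⟨g, (conj_pow).symm⟩

theorem cent_card_conj {x y : G} (h : IsConj x y) :
    Nat.card (centralizer ({x} : Set G)) = Nat.card (centralizer ({y} : Set G)) := by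
  obtain ⟨g, rfl⟩ := isConj_iff.mp h
  refine Nat.card_congr ((MulAut.conj g).toEquiv.subtypeEquiv fun v => ?_)
  show _ ↔ MulAut.conj g v ∈ centralizer ({MulAut.conj g x} : Set G)
  rw [mem_centralizer_singleton_iff, mem_centralizer_singleton_iff, ← map_mul, ← map_mul,
    (MulAut.conj g).injective.eq_iff]

/-- A centraliser lies in the centraliser of each power. -/
theorem cent_le_pow (x : G) (k : ℕ) : centralizer ({x} : Set G) ≤ centralizer ({x ^ k} : Set G) := fun v hv =>
  mem_centralizer_singleton_iff.mpr ((show Commute v x from mem_centralizer_singleton_iff.mp hv).pow_right k).eq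

/-- A section from a list of elements with their bounds. -/
theorem Sec.ofList {n : ℕ} {cs : List ℕ} (xs : List G)
    (h : List.Forall₂ (fun x c => orderOf x = n ∧ Nat.card (centralizer ({x} : Set G)) ≤ c) xs cs)
    (hne : xs.Pairwise fun x y => ¬ IsConj x y) : Sec G n cs := by
  have hl := h.length_eq
  refine ⟨fun i => xs.get (i.cast hl.symm), fun i => (h.get (i.cast hl.symm).2 i.2).1,
    fun i => (h.get (i.cast hl.symm).2 i.2).2, fun i j e => ?_⟩
  rcases lt_trichotomy i.1 j.1 with hij | hij | hij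
  · exact absurd e (List.pairwise_iff_getElem.mp hne _ _ (by omega) (by omega) hij)
  · exact Fin.ext hij
  · exact absurd e.symm (List.pairwise_iff_getElem.mp hne _ _ (by omega) (by omega) hij)

theorem Sec.one {n c : ℕ} {x : G} (hx : orderOf x = n) (hcx : Nat.card (centralizer ({x} : Set G)) ≤ c) :
    Sec G n [c] :=
  Sec.ofList [x] (.cons ⟨hx, hcx⟩ .nil) (List.pairwise_singleton _ _)

theorem Sec.two {n c d : ℕ} {x y : G} (hx : orderOf x = n) (hy : orderOf y = n)
    (hcx : Nat.card (centralizer ({x} : Set G)) ≤ c) (hcy : Nat.card (centralizer ({y} : Set G)) ≤ d)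
    (hxy : ¬ IsConj x y) : Sec G n [c, d] :=
  Sec.ofList [x, y] (.cons ⟨hx, hcx⟩ (.cons ⟨hy, hcy⟩ .nil))
    (List.pairwise_pair.mpr hxy)

theorem Sec.three {n c d e : ℕ} {x y w : G} (hx : orderOf x = n) (hy : orderOf y = n) (hw : orderOf w = n)
    (hcx : Nat.card (centralizer ({x} : Set G)) ≤ c) (hcy : Nat.card (centralizer ({y} : Set G)) ≤ d)
    (hcw : Nat.card (centralizer ({w} : Set G)) ≤ e)
    (hxy : ¬ IsConj x y) (hxw : ¬ IsConj x w) (hyw : ¬ IsConj y w) : Sec G n [c, d, e] :=
  Sec.ofList [x, y, w] (.cons ⟨hx, hcx⟩ (.cons ⟨hy, hcy⟩ (.cons ⟨hw, hcw⟩ .nil)))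
    (List.Pairwise.cons (List.forall_mem_cons.mpr ⟨hxy, List.forall_mem_singleton.mpr hxw⟩) (List.pairwise_pair.mpr hyw))

theorem Sec.four {n c d e e' : ℕ} {x y w v : G} (hx : orderOf x = n) (hy : orderOf y = n) (hw : orderOf w = n)
    (hv : orderOf v = n) (hcx : Nat.card (centralizer ({x} : Set G)) ≤ c)
    (hcy : Nat.card (centralizer ({y} : Set G)) ≤ d) (hcw : Nat.card (centralizer ({w} : Set G)) ≤ e)
    (hcv : Nat.card (centralizer ({v} : Set G)) ≤ e')
    (hxy : ¬ IsConj x y) (hxw : ¬ IsConj x w) (hxv : ¬ IsConj x v) (hyw : ¬ IsConj y w) (hyv : ¬ IsConj y v)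
    (hwv : ¬ IsConj w v) : Sec G n [c, d, e, e'] :=
  Sec.ofList [x, y, w, v] (.cons ⟨hx, hcx⟩ (.cons ⟨hy, hcy⟩ (.cons ⟨hw, hcw⟩ (.cons ⟨hv, hcv⟩ .nil))))
    (List.Pairwise.cons (List.forall_mem_cons.mpr ⟨hxy, List.forall_mem_cons.mpr ⟨hxw, List.forall_mem_singleton.mpr hxv⟩⟩)
      (List.Pairwise.cons (List.forall_mem_cons.mpr ⟨hyw, List.forall_mem_singleton.mpr hyv⟩)
        (List.pairwise_pair.mpr hwv)))

theorem sum_sigma_rows (rows : List (ℕ × List ℕ)) (g : ℕ → ℕ) :
    ∑ s : Σ k : Fin rows.length, Fin (rows.get k).2.length, g ((rows.get s.1).2.get s.2) =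
      (rows.map fun r => (r.2.map g).sum).sum := by
  rw [Fintype.sum_sigma, ← Fin.sum_univ_fun_getElem rows fun r => (r.2.map g).sum]
  refine Finset.sum_congr rfl fun k _ => ?_
  exact Fin.sum_univ_fun_getElem _ g

/-- Rows of sections whose bounds fill the group list all classes. -/
theorem count [Finite G] (rows : List (ℕ × List ℕ)) (h : ∀ r ∈ rows, Sec G r.1 r.2)
    (hnd : (rows.map fun r => r.1).Nodup)
    (hmass : (rows.map fun r => (r.2.map fun c => Nat.card G / c).sum).sum = Nat.card G) :
    Nat.card (ConjClasses G) = (rows.map fun r => r.2.length).sum := by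
  classical
  have hs : ∀ k : Fin rows.length, Sec G (rows.get k).1 (rows.get k).2 := fun k => h _ (List.get_mem _ _)
  choose f ho hc hinj using hs
  letI : Fintype (ConjClasses G) := Fintype.ofFinite _
  let φ : (Σ k : Fin rows.length, Fin (rows.get k).2.length) → ConjClasses G := fun s => ConjClasses.mk (f s.1 s.2)
  have hφ : Function.Injective φ := by
    rintro ⟨k, i⟩ ⟨l, j⟩ e
    have hc' : IsConj (f k i) (f l j) := ConjClasses.mk_eq_mk_iff_isConj.mp e
    have hkl : (rows.get k).1 = (rows.get l).1 := (ho k i).symm.trans ((isConj_order hc').trans (ho l j))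
    obtain rfl : k = l := Fin.ext ((List.Nodup.getElem_inj_iff hnd (i := k.1) (j := l.1)
      (hi := by simp) (hj := by simp)).mp (by simpa using hkl))
    rw [hinj k i j hc']
  have hge : ∀ s, Nat.card G / ((rows.get s.1).2.get s.2) ≤ (φ s).carrier.ncard := fun ⟨k, i⟩ => by
    have h1 := (centralizer ({f k i} : Set G)).card_mul_index
    have h2 : (φ ⟨k, i⟩).carrier.ncard = (centralizer ({f k i} : Set G)).index := by
      have e := congrArg (fun s : Set G => s.ncard) (ConjAct.orbit_eq_carrier_conjClasses (f k i))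
      rw [← e, ← MulAction.index_stabilizer, ConjAct.stabilizer_eq_centralizer]
      rfl
    rw [h2]
    calc Nat.card G / (rows.get k).2.get i
        ≤ Nat.card G / Nat.card (centralizer ({f k i} : Set G)) :=
          Nat.div_le_div_left (hc k i) Nat.card_pos
      _ = (centralizer ({f k i} : Set G)).index := by rw [← h1, Nat.mul_div_cancel_left _ Nat.card_pos]
  have hsum : ∑ x : ConjClasses G, x.carrier.ncard = Nat.card G := by
    rw [← finsum_eq_sum_of_fintype]; exact Group.sum_card_conj_classes_eq_card G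
  have hsurj : Function.Surjective φ := by
    intro x
    by_contra hx
    push Not at hx
    have h1 : Nat.card G ≤ ∑ y ∈ Finset.univ.image φ, y.carrier.ncard := by
      rw [Finset.sum_image hφ.injOn]
      calc Nat.card G = ∑ s : Σ k : Fin rows.length, Fin (rows.get k).2.length,
            Nat.card G / ((rows.get s.1).2.get s.2) := by
            rw [sum_sigma_rows rows fun c => Nat.card G / c]; exact hmass.symm
        _ ≤ _ := Finset.sum_le_sum fun s _ => hge s
    have h2 : 0 < x.carrier.ncard := by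
      obtain ⟨g, rfl⟩ := ConjClasses.mk_surjective x
      exact (Set.ncard_pos (Set.toFinite _)).mpr ⟨g, ConjClasses.mem_carrier_mk⟩
    have h3 : ∑ y ∈ insert x (Finset.univ.image φ), y.carrier.ncard ≤ Nat.card G :=
      hsum ▸ Finset.sum_le_sum_of_subset (Finset.subset_univ _)
    rw [Finset.sum_insert (fun hm => by
      obtain ⟨s, -, e⟩ := Finset.mem_image.mp hm
      exact hx s e)] at h3
    omega
  rw [← Nat.card_congr (Equiv.ofBijective φ ⟨hφ, hsurj⟩), Nat.card_eq_fintype_card, Fintype.card_sigma,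
    ← Fin.sum_univ_fun_getElem rows fun r => r.2.length]
  simp

/-- The expected rows of a group of Janko-four type: orders with the orders of the centralisers. -/
def rowsJ4 : List (ℕ × List ℕ) :=
  [(1, [86775571046077562880]), (2, [21799895040, 1816657920]), (3, [2661120]), (4, [5406720, 98304, 43008]),
   (5, [6720]), (6, [2661120, 2304, 2304]), (7, [840, 840]), (8, [1280, 768, 512]), (10, [960, 80]),
   (11, [31944, 242]), (12, [192, 192, 48]), (14, [84, 84, 56, 56]), (15, [30]), (16, [32]), (20, [160, 160]),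
   (21, [42, 42]), (22, [264, 22]), (23, [23]), (24, [48, 48]), (28, [28, 28]), (29, [29]), (30, [30]),
   (31, [31, 31, 31]), (33, [66, 66]), (35, [35, 35]), (37, [37, 37, 37]), (40, [40, 40]), (42, [42, 42]),
   (43, [43, 43, 43]), (44, [44]), (66, [66, 66])]

theorem rowsJ4_ok : (rowsJ4.map fun r => r.1).Nodup ∧
    (rowsJ4.map fun r => r.2.length).sum = 62 ∧
    (rowsJ4.map fun r => (r.2.map fun c => 86775571046077562880 / c).sum).sum = 86775571046077562880 := by
  decide +kernel

/-- The count for the expected rows. -/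
theorem count_rowsJ4 [Finite G] (hcard : Nat.card G = 86775571046077562880)
    (h : ∀ r ∈ rowsJ4, Sec G r.1 r.2) : Nat.card (ConjClasses G) = 62 := by
  rw [count rowsJ4 h rowsJ4_ok.1 (by rw [hcard]; exact rowsJ4_ok.2.2)]
  exact rowsJ4_ok.2.1

end CfsgLib.J4Classes
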