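import Mathlib

/-!
Counting conjugacy classes section by section: the classes with given part of order n correspond to the classes
of elements of coprime order in its centralizer.
-/

set_option autoImplicit false

namespace CfsgLib.J4Classes

open Subgroup

universe u

variable {G : Type u} [Group G]

/-- The number of classes of elements with a property. -/
noncomputable def cls (P : G → Prop) : ℕ := (ConjClasses.mk '' {g : G | P g}).ncard

theorem cls_eq_of_reps {ι : Type*} {P : G → Prop} (r : ι → G) (hP : ∀ i, P (r i))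
    (hinj : ∀ i j, IsConj (r i) (r j) → i = j) (hcov : ∀ g, P g → ∃ i, IsConj g (r i)) :
    cls P = Nat.card ι := by
  have h : ConjClasses.mk '' {g : G | P g} = Set.range fun i => ConjClasses.mk (r i) := by
    ext C
    constructor
    · rintro ⟨g, hg, rfl⟩
      obtain ⟨i, hi⟩ := hcov g hg
      exact ⟨i, (ConjClasses.mk_eq_mk_iff_isConj.mpr hi).symm⟩
    · rintro ⟨i, rfl⟩
      exact ⟨r i, hP i, rfl⟩
  rw [cls, h, Set.ncard_range_of_injective fun i j e => hinj i j (ConjClasses.mk_eq_mk_iff_isConj.mp e)]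

theorem cls_congr {P Q : G → Prop} (h : ∀ g, P g ↔ Q g) : cls P = cls Q := by
  rw [show P = Q from funext fun g => propext (h g)]

theorem cls_or [Finite G] {P Q : G → Prop} (hd : ∀ a b, IsConj a b → P a → Q b → False) :
    cls (fun g => P g ∨ Q g) = cls P + cls Q := by
  rw [cls, cls, cls, ← Set.ncard_union_eq _ (Set.toFinite _) (Set.toFinite _), ← Set.image_union]
  · rfl
  · rw [Set.disjoint_left]
    rintro C ⟨a, ha, rfl⟩ ⟨b, hb, e⟩
    exact hd a b (ConjClasses.mk_eq_mk_iff_isConj.mp e.symm) ha hb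

theorem cls_true (P : G → Prop) (h : ∀ g, P g) : Nat.card (ConjClasses G) = cls P := by
  rw [cls, show {g : G | P g} = Set.univ from Set.eq_univ_of_forall h, Set.image_univ,
    Set.range_eq_univ.mpr ConjClasses.mk_surjective, Set.ncard_univ]

theorem isConj_iff' {a b : G} : IsConj a b ↔ ∃ g : G, g * a * g⁻¹ = b := isConj_iff

theorem order_conj (g a : G) : orderOf (g * a * g⁻¹) = orderOf a := (MulAut.conj g).orderOf_eq a

theorem isConj_orderOf {a b : G} (h : IsConj a b) : orderOf a = orderOf b := by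
  obtain ⟨g, rfl⟩ := isConj_iff.mp h
  exact (order_conj g a).symm

/-- The parts of coprime orders of an element are unique. -/
theorem part_unique {n m : ℕ} (hnm : n.Coprime m) {w w' u u' : G} (hc : w * u = u * w) (hc' : w' * u' = u' * w')
    (hw : w ^ n = 1) (hw' : w' ^ n = 1) (hu : u ^ m = 1) (hu' : u' ^ m = 1) (h : w * u = w' * u') :
    w = w' ∧ u = u' := by
  obtain ⟨k, hkn, hkm⟩ := Nat.chineseRemainder hnm 1 0
  have key : ∀ {a b : G}, a * b = b * a → a ^ n = 1 → b ^ m = 1 → (a * b) ^ k = a := by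
    intro a b hab ha hb
    rw [Commute.mul_pow hab]
    have h1 : a ^ k = a ^ 1 := pow_eq_pow_iff_modEq.mpr (hkn.of_dvd (orderOf_dvd_of_pow_eq_one ha))
    have h2 : b ^ k = b ^ 0 := pow_eq_pow_iff_modEq.mpr (hkm.of_dvd (orderOf_dvd_of_pow_eq_one hb))
    rw [h1, h2, pow_one, pow_zero, mul_one]
  have e : w = w' := by
    rw [← key hc hw hu, h, key hc' hw' hu']
  exact ⟨e, mul_left_cancel (h.trans (by rw [e]))⟩

/-- An element splits into parts of coprime orders. -/
theorem split_parts {n m : ℕ} (hnm : n.Coprime m) {g : G} (hg : orderOf g = n * m) :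
    ∃ w u : G, g = w * u ∧ w * u = u * w ∧ orderOf w = n ∧ orderOf u = m ∧ g * w = w * g ∧ g * u = u * g := by
  obtain ⟨a, han, ham⟩ := Nat.chineseRemainder hnm 1 0
  obtain ⟨b, hbn, hbm⟩ := Nat.chineseRemainder hnm 0 1
  have hsum : g ^ a * g ^ b = g := by
    rw [← pow_add]
    conv_rhs => rw [← pow_one g]
    rw [pow_eq_pow_iff_modEq, hg]
    refine (Nat.modEq_and_modEq_iff_modEq_mul hnm).mp ⟨?_, ?_⟩
    · exact han.add hbn
    · exact ham.add hbm
  have hw : (g ^ a) ^ n = 1 := by
    rw [← pow_mul, ← orderOf_dvd_iff_pow_eq_one, hg, mul_comm a n]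
    exact Nat.mul_dvd_mul_left n (Nat.modEq_zero_iff_dvd.mp ham)
  have hu : (g ^ b) ^ m = 1 := by
    rw [← pow_mul, ← orderOf_dvd_iff_pow_eq_one, hg, mul_comm b m, mul_comm n m]
    exact Nat.mul_dvd_mul_left m (Nat.modEq_zero_iff_dvd.mp hbn)
  have hcm : Commute (g ^ a) (g ^ b) := Commute.pow_pow_self g a b
  have hn := orderOf_dvd_of_pow_eq_one hw
  have hm := orderOf_dvd_of_pow_eq_one hu
  have hmul : orderOf (g ^ a) * orderOf (g ^ b) = n * m := by
    rw [← hcm.orderOf_mul_eq_mul_orderOf_of_coprime ((hnm.coprime_dvd_left hn).coprime_dvd_right hm), hsum, hg]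
  refine ⟨g ^ a, g ^ b, hsum.symm, hcm, ?_, ?_, (Commute.self_pow g a), (Commute.self_pow g b)⟩
  · refine Nat.dvd_antisymm hn ((hnm.coprime_dvd_right hm).dvd_of_dvd_mul_right ?_)
    rw [hmul]; exact Dvd.intro m rfl
  · refine Nat.dvd_antisymm hm ((hnm.symm.coprime_dvd_right hn).dvd_of_dvd_mul_left ?_)
    rw [hmul]; exact Dvd.intro_left n rfl

/-- Counting a section. -/
theorem cls_section {ι κ : Type*} {P : G → Prop} (n : ℕ) (w : ι → G) (u : ι → κ → G)
    (hw : ∀ i, orderOf (w i) = n) (hinj : ∀ i j, IsConj (w i) (w j) → i = j)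
    (hcomm : ∀ i k, w i * u i k = u i k * w i) (hcop : ∀ i k, n.Coprime (orderOf (u i k)))
    (huinj : ∀ i k l, (∃ g : G, g * w i * g⁻¹ = w i ∧ g * u i k * g⁻¹ = u i l) → k = l)
    (hP : ∀ i k, P (w i * u i k)) (hcov : ∀ g, P g → ∃ i k, IsConj g (w i * u i k)) :
    cls P = Nat.card ι * Nat.card κ := by
  rw [← Nat.card_prod, cls_eq_of_reps (fun x : ι × κ => w x.1 * u x.1 x.2) (fun x => hP _ _)]
  · rintro ⟨i, k⟩ ⟨j, l⟩ h
    obtain ⟨g, hg⟩ := isConj_iff.mp h
    rw [show g * (w i * u i k) * g⁻¹ = g * w i * g⁻¹ * (g * u i k * g⁻¹) by group] at hg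
    have hgc : g * w i * g⁻¹ * (g * u i k * g⁻¹) = g * u i k * g⁻¹ * (g * w i * g⁻¹) := by
      rw [show g * w i * g⁻¹ * (g * u i k * g⁻¹) = g * (w i * u i k) * g⁻¹ by group, hcomm i k]; group
    obtain ⟨e1, e2⟩ := part_unique (n := n) (m := orderOf (u i k) * orderOf (u j l))
      ((hcop i k).mul_right (hcop j l)) hgc (hcomm j l)
      (by rw [conj_pow, ← hw i, pow_orderOf_eq_one]; group) (by rw [← hw j, pow_orderOf_eq_one])
      (by rw [conj_pow, pow_mul, pow_orderOf_eq_one, one_pow]; group)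
      (by rw [mul_comm, pow_mul, pow_orderOf_eq_one, one_pow]) hg
    obtain rfl := hinj i j (isConj_iff.mpr ⟨g, e1⟩)
    rw [huinj i k l ⟨g, e1, e2⟩]
  · exact fun g hg => by
      obtain ⟨i, k, h⟩ := hcov g hg
      exact ⟨(i, k), h⟩

/-- The classes of elements of prime order inside a self-normalised family of subgroups of that order. -/
theorem prime_classes [Finite G] {p e : ℕ} [Fact p.Prime] (hp : ∀ U : Subgroup G, ∀ V : Subgroup G,
      Nat.card U = p → Nat.card V = p → ∃ g : G, U.map (MulAut.conj g).toMonoidHom = V)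
    (U : Subgroup G) (hU : Nat.card U = p)
    (hN : Nat.card ↥(normalizer (U : Set G)) = e * Nat.card ↥(centralizer (U : Set G))) :
    ∃ (n : ℕ) (w : Fin n → G), n * e = p - 1 ∧ (∀ i, w i ∈ U) ∧ (∀ i, orderOf (w i) = p) ∧
      (∀ i j, IsConj (w i) (w j) → i = j) ∧ ∀ x : G, orderOf x = p → ∃ i, IsConj x (w i) := by
  classical
  have hp1 : 1 < p := (Fact.out : p.Prime).one_lt
  have hgen : ∀ x ∈ U, x ≠ 1 → zpowers x = U := fun x hx h1 => by
    refine eq_of_le_of_card_ge (zpowers_le.mpr hx) ?_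
    rw [Nat.card_zpowers, hU, orderOf_eq_prime (p := p) ?_ h1]
    exact congrArg Subtype.val (hU ▸ pow_card_eq_one' (x := (⟨x, hx⟩ : U)) : (⟨x, hx⟩ : U) ^ p = 1)
  haveI : Fintype U := Fintype.ofFinite _
  let S : Finset U := Finset.univ.erase 1
  let f : U → ConjClasses G := fun x => ConjClasses.mk (x : G)
  let T := S.image f
  have hpow : ∀ x : U, x ≠ 1 → orderOf (x : G) = p := fun x hx => by
    rw [Subgroup.orderOf_coe]
    exact orderOf_eq_prime (hU ▸ pow_card_eq_one') hx
  have hfib : ∀ C ∈ T, (S.filter fun x => f x = C).card = e := by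
    intro C hC
    obtain ⟨x, hx, rfl⟩ := Finset.mem_image.mp hC
    have hx1 : (x : G) ≠ 1 := fun h => (Finset.mem_erase.mp hx).1 (Subtype.ext h)
    let N := normalizer (U : Set G)
    let orb : N → {y : U // y ∈ S.filter fun y => f y = f x} := fun g =>
      ⟨⟨(g : G) * x * (g : G)⁻¹, (mem_normalizer_iff.mp g.2 x).mp x.2⟩, Finset.mem_filter.mpr
        ⟨Finset.mem_erase.mpr ⟨fun h => hx1 (conj_eq_one_iff.mp (congrArg Subtype.val h)), Finset.mem_univ _⟩,
          ConjClasses.mk_eq_mk_iff_isConj.mpr (isConj_iff.mpr ⟨(g : G)⁻¹, by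
            show (g : G)⁻¹ * ((g : G) * x * (g : G)⁻¹) * (g : G)⁻¹⁻¹ = x
            group⟩)⟩⟩
    have hsur : Function.Surjective orb := by
      rintro ⟨y, hy⟩
      obtain ⟨hyS, hyx⟩ := Finset.mem_filter.mp hy
      obtain ⟨g, hg⟩ := isConj_iff.mp (ConjClasses.mk_eq_mk_iff_isConj.mp hyx.symm)
      have hgN : g ∈ N := by
        have e1 : U.map (MulAut.conj g).toMonoidHom = U := by
          conv_lhs => rw [← hgen x x.2 hx1, MonoidHom.map_zpowers]
          show zpowers (g * x * g⁻¹) = U
          rw [hg]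
          exact hgen y y.2 fun h => (Finset.mem_erase.mp hyS).1 (Subtype.ext h)
        refine mem_normalizer_iff.mpr fun v => ?_
        conv_rhs => rw [← e1]
        exact (Subgroup.mem_map_iff_mem (f := (MulAut.conj g).toMonoidHom) (MulAut.conj g).injective).symm
      exact ⟨⟨g, hgN⟩, Subtype.ext (Subtype.ext hg)⟩
    let Cn : Subgroup N := (centralizer (U : Set G)).subgroupOf N
    have hker : ∀ a b : N, orb a = orb b ↔ a⁻¹ * b ∈ Cn := by
      intro a b
      rw [mem_subgroupOf]
      constructor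
      · intro h
        have h' : (a : G) * x * (a : G)⁻¹ = b * x * (b : G)⁻¹ :=
          congrArg (fun z : {y : U // y ∈ S.filter fun y => f y = f x} => ((z.1 : U) : G)) h
        have hc : ((a⁻¹ * b : N) : G) * x = x * ((a⁻¹ * b : N) : G) := by
          show (a : G)⁻¹ * b * x = x * ((a : G)⁻¹ * b)
          calc (a : G)⁻¹ * b * x = (a : G)⁻¹ * (b * x * (b : G)⁻¹) * b := by group
            _ = x * ((a : G)⁻¹ * b) := by rw [← h']; group
        refine mem_centralizer_iff.mpr fun v hv => ?_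
        rw [← hgen x x.2 hx1] at hv
        obtain ⟨i, rfl⟩ := mem_zpowers_iff.mp hv
        exact (Commute.zpow_left (show Commute (x : G) _ from hc.symm) i).eq
      · intro h
        have hc := mem_centralizer_iff.mp h x x.2
        refine Subtype.ext (Subtype.ext ?_)
        show (a : G) * x * (a : G)⁻¹ = b * x * (b : G)⁻¹
        have hc' : (x : G) * ((a : G)⁻¹ * b) = (a : G)⁻¹ * b * x := hc
        calc (a : G) * x * (a : G)⁻¹ = a * (x * ((a : G)⁻¹ * b)) * (b : G)⁻¹ := by group
          _ = b * x * (b : G)⁻¹ := by rw [hc']; group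
    have hbij : Function.Bijective (Quotient.lift orb (fun a b h =>
        (hker a b).mpr (QuotientGroup.leftRel_apply.mp h)) : N ⧸ Cn → _) := by
      refine ⟨?_, fun y => ?_⟩
      · intro a b
        induction a using Quotient.inductionOn with
        | _ a =>
          induction b using Quotient.inductionOn with
          | _ b => exact fun h => Quotient.sound (QuotientGroup.leftRel_apply.mpr ((hker a b).mp h))
      · obtain ⟨g, rfl⟩ := hsur y
        exact ⟨Quotient.mk _ g, rfl⟩
    have h1 := Nat.card_eq_of_bijective _ hbij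
    rw [Nat.card_eq_fintype_card (α := {y : U // y ∈ S.filter fun y => f y = f x}), Fintype.card_coe] at h1
    rw [← h1]
    have h2 := Subgroup.card_eq_card_quotient_mul_card_subgroup Cn
    rw [Nat.card_congr (subgroupOfEquivOfLe (centralizer_le_normalizer (U : Set G))).toEquiv, hN] at h2
    exact (Nat.eq_of_mul_eq_mul_right Nat.card_pos h2).symm
  have hcount : T.card * e = p - 1 := by
    rw [← hU, Nat.card_eq_fintype_card, ← Finset.card_univ, ← Finset.card_erase_of_mem (Finset.mem_univ (1 : U)),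
      Finset.card_eq_sum_card_image f S, Finset.sum_congr rfl hfib, Finset.sum_const, smul_eq_mul]
  have hch : ∀ C : T, ∃ x ∈ S, f x = C.1 := fun C => Finset.mem_image.mp C.2
  choose r hr hre using hch
  refine ⟨T.card, fun i => (r (T.equivFin.symm i) : G), hcount, fun i => (r _).2,
    fun i => hpow _ (Finset.mem_erase.mp (hr _)).1, fun i j h => ?_, fun x hx => ?_⟩
  · have := ConjClasses.mk_eq_mk_iff_isConj.mpr h
    change f (r _) = f (r _) at this
    rw [hre, hre] at this
    exact T.equivFin.symm.injective (Subtype.ext this)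
  · obtain ⟨g, hg⟩ := hp (zpowers x) U (by rw [Nat.card_zpowers, hx]) hU
    have hxU : g * x * g⁻¹ ∈ U := hg ▸ ⟨x, mem_zpowers x, rfl⟩
    have hmem : f ⟨_, hxU⟩ ∈ T := Finset.mem_image_of_mem f (Finset.mem_erase.mpr
      ⟨fun h => by
        have h' : x = 1 := conj_eq_one_iff.mp (congrArg Subtype.val h)
        rw [h', orderOf_one] at hx; omega, Finset.mem_univ _⟩)
    refine ⟨T.equivFin ⟨_, hmem⟩, (isConj_iff.mpr ⟨g, rfl⟩).trans (ConjClasses.mk_eq_mk_iff_isConj.mp ?_)⟩
    show f ⟨_, hxU⟩ = f (r _)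
    rw [hre, Equiv.symm_apply_apply]

/-- Sylow subgroups of prime order are conjugate. -/
theorem prime_sylow_conj [Finite G] {p : ℕ} [Fact p.Prime] (hfac : (Nat.card G).factorization p = 1) :
    ∀ U V : Subgroup G, Nat.card U = p → Nat.card V = p → ∃ g : G, U.map (MulAut.conj g).toMonoidHom = V := by
  intro U V hU hV
  let A : Sylow p G := Sylow.ofCard U (by rw [hU, hfac, pow_one])
  let B : Sylow p G := Sylow.ofCard V (by rw [hV, hfac, pow_one])
  obtain ⟨g, hg⟩ := MulAction.exists_smul_eq G A B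
  exact ⟨g, congrArg Sylow.toSubgroup hg⟩

end CfsgLib.J4Classes
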