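import Cfsg.Agent.Lib.J4Classes.Basic
import Cfsg.Agent.Lib.J4Classes.Section

/-!
Products of commuting elements of coprime orders: conjugacy and centralisers.
-/

set_option autoImplicit false

namespace CfsgLib.J4Classes

open Subgroup

universe u

variable {G : Type u} [Group G]

theorem parts_conj {n m : ℕ} (hnm : n.Coprime m) {w u w' u' : G} (hc : w * u = u * w) (hc' : w' * u' = u' * w')
    (hw : w ^ n = 1) (hw' : w' ^ n = 1) (hu : u ^ m = 1) (hu' : u' ^ m = 1) (h : IsConj (w * u) (w' * u')) :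
    ∃ g : G, g * w * g⁻¹ = w' ∧ g * u * g⁻¹ = u' := by
  obtain ⟨g, hg⟩ := isConj_iff.mp h
  refine ⟨g, part_unique hnm (w := g * w * g⁻¹) (u := g * u * g⁻¹) ?_ hc' ?_ hw' ?_ hu' ?_⟩
  · rw [show g * w * g⁻¹ * (g * u * g⁻¹) = g * (w * u) * g⁻¹ by group, hc]; group
  · rw [conj_pow, hw]; group
  · rw [conj_pow, hu]; group
  · rw [← hg]; group

theorem parts_cent {n m : ℕ} (hnm : n.Coprime m) {w u v : G} (hc : w * u = u * w)
    (hw : w ^ n = 1) (hu : u ^ m = 1) (hv : v ∈ centralizer ({w * u} : Set G)) :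
    v * w = w * v ∧ v * u = u * v := by
  have h : v * (w * u) * v⁻¹ = w * u := mul_inv_eq_iff_eq_mul.mpr (mem_centralizer_singleton_iff.mp hv)
  obtain ⟨e1, e2⟩ := part_unique hnm (w := v * w * v⁻¹) (u := v * u * v⁻¹) (w' := w) (u' := u)
    (by rw [show v * w * v⁻¹ * (v * u * v⁻¹) = v * (w * u) * v⁻¹ by group, hc]; group) hc
    (by rw [conj_pow, hw]; group) hw (by rw [conj_pow, hu]; group) hu (by rw [← h]; group)
  exact ⟨mul_inv_eq_iff_eq_mul.mp e1, mul_inv_eq_iff_eq_mul.mp e2⟩

theorem order_parts {n m : ℕ} (hnm : n.Coprime m) {w u : G} (hc : w * u = u * w) (hw : orderOf w = n)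
    (hu : orderOf u = m) : orderOf (w * u) = n * m := by
  rw [(show Commute w u from hc).orderOf_mul_eq_mul_orderOf_of_coprime (by rw [hw, hu]; exact hnm), hw, hu]

theorem pow_of_order {w : G} {n : ℕ} (h : orderOf w = n) : w ^ n = 1 := by rw [← h, pow_orderOf_eq_one]

/-- The first part of a product is conjugation invariant. -/
theorem not_conj_left {n m : ℕ} (hnm : n.Coprime m) {w u w' u' : G} (hc : w * u = u * w) (hc' : w' * u' = u' * w')
    (hw : orderOf w = n) (hw' : orderOf w' = n) (hu : orderOf u = m) (hu' : orderOf u' = m) (hne : ¬ IsConj w w') :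
    ¬ IsConj (w * u) (w' * u') := fun h => by
  obtain ⟨g, h1, -⟩ := parts_conj hnm hc hc' (pow_of_order hw) (pow_of_order hw') (pow_of_order hu) (pow_of_order hu') h
  exact hne (isConj_iff.mpr ⟨g, h1⟩)

theorem cent_eq_zpowers (w : G) : centralizer ({w} : Set G) = centralizer ((zpowers w : Subgroup G) : Set G) := by
  refine le_antisymm (fun v hv => mem_centralizer_iff.mpr fun x hx => ?_) fun v hv =>
    mem_centralizer_singleton_iff.mpr (mem_centralizer_iff.mp hv w (mem_zpowers w)).symm
  obtain ⟨i, rfl⟩ := mem_zpowers_iff.mp hx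
  exact (Commute.zpow_left (show Commute w v from (mem_centralizer_singleton_iff.mp hv).symm) i).eq

/-- A subgroup of prime order is generated by each nontrivial element. -/
theorem zpowers_of_mem {p : ℕ} {U : Subgroup G} [Finite U] (hU : Nat.card U = p) {w : G} (hw : w ∈ U)
    (ho : orderOf w = p) : zpowers w = U :=
  eq_of_le_of_card_ge (zpowers_le.mpr hw) (by rw [Nat.card_zpowers, ho, hU])

theorem list_get_replicate {c : ℕ} (n : ℕ) (i : Fin (List.replicate n c).length) :
    (List.replicate n c).get i = c := by simp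

end CfsgLib.J4Classes
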