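import Cfsg.Agent.Lib.J4Classes.OddBase
import Cfsg.Agent.Lib.JankoFour.BigPrimeEleven
import Cfsg.Agent.S5577

/-!
The sections of elements of order 23, 29, 31, 37, 43 in a group of Janko-four type.
-/

set_option autoImplicit false
set_option linter.style.haveILetI false

namespace CfsgLib.J4Classes

open Cfsg Subgroup CfsgLib.JankoFour

universe u

variable {G : Type u} [Group G] [Finite G]

/-- The sections of a prime whose Sylow subgroups are self centralising of prime order. -/
theorem sec_prime {p e n : ℕ} [Fact p.Prime] (hfac : (Nat.card G).factorization p = 1) (he : n * e = p - 1)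
    (h : ∀ U : Sylow p G, centralizer ((U : Subgroup G) : Set G) = (U : Subgroup G) ∧
      Nat.card ↥(normalizer ((U : Subgroup G) : Set G)) = p * e) : Sec G p (List.replicate n p) := by
  classical
  let U : Sylow p G := default
  obtain ⟨hC, hN⟩ := h U
  have hU : Nat.card ↥(U : Subgroup G) = p := by rw [U.card_eq_multiplicity, hfac, pow_one]
  have he0 : 0 < e := by
    by_contra h0
    rw [Nat.eq_zero_of_not_pos h0, mul_zero] at hN
    exact Nat.card_pos.ne' hN
  obtain ⟨n', w, hn', hwU, hwo, hinj, -⟩ := prime_classes (p := p) (e := e)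
    (prime_sylow_conj hfac) (U : Subgroup G) hU (by rw [hN, hC, hU, mul_comm])
  obtain rfl : n' = n := Nat.eq_of_mul_eq_mul_right he0 (hn'.trans he.symm)
  refine ⟨fun i => w (i.cast (List.length_replicate ..)), fun i => hwo _, fun i => ?_, fun i j hij => ?_⟩
  · rw [list_get_replicate, cent_eq_zpowers, zpowers_of_mem hU (hwU _) (hwo _), hC, hU]
  · exact Fin.cast_injective _ (hinj _ _ hij)

/-- The sections of the large primes. -/
theorem sec_big [IsSimpleGroup G] (hG : ¬ IsMulCommutative G) (hJ : IsOfJankoFourType G) :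
    Sec G 23 [23] ∧ Sec G 29 [29] ∧ Sec G 31 [31, 31, 31] ∧ Sec G 37 [37, 37, 37] ∧ Sec G 43 [43, 43, 43] := by
  obtain ⟨h23, h29, h31, h37, h43⟩ := Cfsg.Agent.S5577.result hG hJ
  have hcard : Nat.card G = Big.orderJ4 := CfsgLib.J4Order.card_G hG hJ
  have hfac : ∀ p ∈ Big.bigs, (Nat.card G).factorization p = 1 := by
    intro p hp
    obtain ⟨h1, h2⟩ := Big.bigs_once hp
    rw [hcard]
    refine le_antisymm ?_ ((Big.bigs_prime hp).factorization_pos_of_dvd (by norm_num [Big.orderJ4]) h1)
    by_contra hc
    exact h2 (((Big.bigs_prime hp).pow_dvd_iff_le_factorization (by norm_num [Big.orderJ4])).mpr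
      (show 2 ≤ Big.orderJ4.factorization p by omega))
  exact ⟨haveI : Fact (Nat.Prime 23) := ⟨by norm_num⟩; sec_prime (n := 1) (hfac 23 (by decide)) (by norm_num) h23,
    haveI : Fact (Nat.Prime 29) := ⟨by norm_num⟩; sec_prime (n := 1) (hfac 29 (by decide)) (by norm_num) h29,
    haveI : Fact (Nat.Prime 31) := ⟨by norm_num⟩; sec_prime (n := 3) (hfac 31 (by decide)) (by norm_num) h31,
    haveI : Fact (Nat.Prime 37) := ⟨by norm_num⟩; sec_prime (n := 3) (hfac 37 (by decide)) (by norm_num) h37,
    haveI : Fact (Nat.Prime 43) := ⟨by norm_num⟩; sec_prime (n := 3) (hfac 43 (by decide)) (by norm_num) h43⟩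

end CfsgLib.J4Classes
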