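import Cfsg.Agent.Lib.J4Classes.OddBase
import Cfsg.Agent.Lib.J4Order.Order
import Cfsg.Agent.Lib.JankoFour.ElevenNorm

/-!
The sections of elements of order divisible by eleven in a group of Janko-four type.
-/

set_option autoImplicit false
set_option linter.style.haveILetI false

namespace CfsgLib.J4Classes

open Cfsg Subgroup CfsgLib.JankoFour
open CfsgLib.JankoFour.Eleven

universe u

variable {G : Type u} [Group G] [Finite G]

/-- The sections of eleven. -/
theorem sec_eleven [IsSimpleGroup G] (hG : ¬ IsMulCommutative G) (hJ : IsOfJankoFourType G) :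
    Sec G 11 [31944, 242] ∧ Sec G 22 [264, 22] ∧ Sec G 33 [66, 66] ∧ Sec G 44 [44] ∧ Sec G 66 [66, 66] := by
  classical
  have hcard : Nat.card G = Big.orderJ4 := CfsgLib.J4Order.card_G hG hJ
  haveI : Fact (Nat.Prime 2) := ⟨Nat.prime_two⟩
  haveI : Fact (Nat.Prime 11) := ⟨by norm_num⟩
  obtain ⟨z, P, hJ'⟩ := hJ
  obtain ⟨c⟩ := ctx_of_type hJ'
  obtain ⟨A, o⟩ := c.exists_orb hG (hinv_of_type hJ')
  obtain ⟨dd⟩ := o.duads
  obtain ⟨x0, hx0c, hx0⟩ := exists_inner c
  obtain ⟨R, hR⟩ := cent_inner hG hJ' hcard c hx0 hx0c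
  obtain ⟨-, hD, hdec⟩ := card_centH c hJ' hx0 hx0c
  obtain ⟨t, ht⟩ := Set.nonempty_of_ncard_ne_zero (s := c.Tset (c.vGrp A o.hA.1.1)) (by rw [o.cardT]; norm_num)
  obtain ⟨⟨x1, hx1t⟩, hx1'⟩ := exists_prime_orderOf_dvd_card' (G := ↥(centralizer ({t} : Set G))) 11
    (by rw [card_cent_t hG hJ' (o := o) ht]; norm_num)
  have hx1 : orderOf x1 = 11 := by rw [← hx1', Subgroup.orderOf_mk]
  have hxt : x1 * t = t * x1 := mem_centralizer_singleton_iff.mp hx1t
  obtain ⟨d, O, hd2, hd3, hO⟩ := cent_outer hG hJ' hcard dd ht hx1 hxt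
  obtain rfl : d = 2 := by
    have := outer_small hG hJ' hcard dd ht hx1 hxt hO
    omega
  have hC1 : Nat.card ↥(centralizer ({x1} : Set G)) = 242 := by rw [hO.cardC]; norm_num
  have hne : ¬ IsConj x0 x1 := fun h => by
    have := cent_card_conj h
    rw [hC1, hR.cardC] at this
    norm_num at this
  set H := centralizer ({z} : Set G) with hH
  have hz0 : x0 * z = z * x0 := mem_centralizer_singleton_iff.mp hx0c.1
  have hz2 : orderOf z = 2 := c.oz
  have ht2 : orderOf t = 2 := orderOf_eq_prime (by rw [sq]; exact c.vGrp_sq o.hA.1 ht.1) ht.2.1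
  have hx0i : orderOf x0⁻¹ = 11 := by rw [orderOf_inv, hx0]
  obtain ⟨p, hp, p1, hPgen⟩ := c.exists_gen
  have hp3 : orderOf p = 3 := orderOf_eq_prime (hp := ⟨Nat.prime_three⟩) (by
    rw [pow_succ, sq]; exact c.P_cube hp) p1
  have hpx : p * x0 = x0 * p := (c.cen_comm hx0c hp).symm
  have hpxi : p * x0⁻¹ = x0⁻¹ * p := (Commute.inv_right hpx : Commute p x0⁻¹).eq
  have hpz : p * z = z * p := c.zP p hp
  have hxS : ∀ e ∈ fixE c x0 ⊔ P, x0 * e * x0⁻¹ = e := fun e he => by
    have h1 : fixE c x0 ⊔ P ≤ centralizer ({x0} : Set G) := sup_le inf_le_right fun q hq =>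
      mem_centralizer_singleton_iff.mpr (c.cen_comm hx0c hq).symm
    rw [← mem_centralizer_singleton_iff.mp (h1 he), mul_inv_cancel_right]
  have hXn : zpowers x0 ≤ normalizer ((fixE c x0 ⊔ P : Subgroup G) : Set G) := by
    rw [zpowers_le, mem_normalizer_iff]
    intro e
    refine ⟨fun he => by rw [hxS e he]; exact he, fun he => ?_⟩
    have h1 := hxS _ he
    have h2 : x0 * e * x0⁻¹ = e := mul_left_cancel (mul_right_cancel h1)
    rwa [h2] at he
  have hPn : P ≤ normalizer (fixE c x0 : Set G) := fun q hq => mem_norm_of fun e he => P_conj_fixE c hx0c hq he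
  -- the quaternion element
  obtain ⟨a, ha, b, hb, hab⟩ := fixE_nonabelian c hx0 hx0c
  have haE : a ∈ twoCoreOfCentralizer z := (mem_fixE.mp ha).1
  have hbE : b ∈ twoCoreOfCentralizer z := (mem_fixE.mp hb).1
  have haH : a ∈ H := c.Ez haE
  have haZ : a ∉ zpowers z := fun h => hab (c.Z_comm (c.Ez hbE) h).symm
  have haa : a * a = z := (c.mem_Z.mp (c.sq_mem_Z haE)).resolve_left fun h => haZ (fixE_invol c hx0 hx0c ha h)
  have haz : a * z = z * a := mem_centralizer_singleton_iff.mp haH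
  have ha4 : orderOf a = 4 := orderOf_eq_prime_pow (p := 2) (n := 1)
    (by rw [pow_one, sq, haa]; exact c.z_ne_one)
    (by rw [show (2 : ℕ) ^ (1 + 1) = 2 * 2 from rfl, pow_mul, sq a, haa, sq]; exact c.zz)
  have hbab : b * a * b⁻¹ = a * z := by
    have hk : b * a * b⁻¹ * a⁻¹ = z := (c.mem_Z.mp (c.comm_mem_Z hbE haE)).resolve_left fun h =>
      hab (mul_inv_eq_iff_eq_mul.mp (mul_inv_eq_one.mp h)).symm
    calc b * a * b⁻¹ = b * a * b⁻¹ * a⁻¹ * a := by group
      _ = a * z := by rw [hk, haz]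
  have hax : x0 * a = a * x0 := (mem_fixE.mp ha).2.symm
  set D := H ⊓ centralizer ({x0} : Set G) with hDdef
  have hbD : b ∈ D := ⟨c.Ez hbE, mem_centralizer_singleton_iff.mpr (mem_fixE.mp hb).2⟩
  have hpD : p ∈ D := ⟨c.P_le hp, mem_centralizer_singleton_iff.mpr hpx⟩
  -- bounds
  have b22a : Nat.card ↥(centralizer ({z * x0} : Set G)) ≤ 264 := by
    refine le_of_le_of_eq (card_le_of_le fun v hv => ?_) hD
    obtain ⟨h1, h2⟩ := parts_cent (n := 2) (m := 11) (by norm_num) hz0.symm (pow_of_order hz2) (pow_of_order hx0) hv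
    exact ⟨mem_centralizer_singleton_iff.mpr h1, mem_centralizer_singleton_iff.mpr h2⟩
  have b22b : Nat.card ↥(centralizer ({t * x1} : Set G)) ≤ 22 := by
    set C := centralizer ({x1} : Set G) with hC
    refine le_trans (card_le_of_le (K := C ⊓ centralizer ({t} : Set G)) fun v hv => ?_) ?_
    · obtain ⟨h1, h2⟩ := parts_cent (n := 2) (m := 11) (by norm_num) hxt.symm (pow_of_order ht2) (pow_of_order hx1) hv
      exact ⟨mem_centralizer_singleton_iff.mpr h2, mem_centralizer_singleton_iff.mpr h1⟩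
    set D' := C ⊓ centralizer ({t} : Set G) with hD'
    have h1 := (O.subgroupOf D').card_mul_index
    have h2 : Nat.card ↥(O.subgroupOf D') ≤ 11 := by
      rw [← inf_subgroupOf_right, Nat.card_congr (subgroupOfEquivOfLe (inf_le_right : O ⊓ D' ≤ D')).toEquiv, ← hx1,
        ← Nat.card_zpowers]
      exact card_le_of_le fun w hw => hO.fix w hw.1 (mem_centralizer_singleton_iff.mp hw.2.2)
    have h3 : O.relIndex C = 2 := by
      have h := (O.subgroupOf C).card_mul_index
      rw [Nat.card_congr (subgroupOfEquivOfLe hO.le).toEquiv, hO.card, hC1] at h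
      change 11 ^ 2 * O.relIndex C = 242 at h
      omega
    have h4 : O.relIndex D' ≤ 2 := h3 ▸ relIndex_le_of_le_right inf_le_left (by rw [h3]; norm_num)
    change _ * O.relIndex D' = _ at h1
    rw [← h1]
    exact (Nat.mul_le_mul h2 h4).trans_eq (by norm_num)
  have b66 : ∀ y : G, y = x0 ∨ y = x0⁻¹ → Nat.card ↥(centralizer ({p * y} : Set G)) ≤ 66 := by
    intro y hy
    have hy11 : orderOf y = 11 := by rcases hy with rfl | rfl; exacts [hx0, hx0i]
    have hpy : p * y = y * p := by rcases hy with rfl | rfl; exacts [hpx, hpxi]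
    let f : ↥(zpowers z) × ↥P × ↥(zpowers x0) → G := fun w => (w.1 : G) * w.2.1 * w.2.2
    have hsub : (centralizer ({p * y} : Set G) : Set G) ⊆ Set.range f := by
      intro v hv
      obtain ⟨h1, h2⟩ := parts_cent (n := 3) (m := 11) (by norm_num) hpy (pow_of_order hp3) (pow_of_order hy11) hv
      have hvx : v * x0 = x0 * v := by
        rcases hy with rfl | rfl
        · exact h2
        · have := (Commute.inv_right (show Commute v x0⁻¹ from h2)).eq
          rwa [inv_inv] at this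
      have hvP : v ∈ centralizer (P : Set G) := by
        rw [hPgen, ← cent_eq_zpowers]; exact mem_centralizer_singleton_iff.mpr h1
      have hvD : v ∈ D := ⟨c.norm_P hG (hinv_of_type hJ') (centralizer_le_normalizer _ hvP),
        mem_centralizer_singleton_iff.mpr hvx⟩
      replace hvD : v ∈ fixE c x0 ⊔ P ⊔ zpowers x0 := le_of_eq hdec.symm hvD
      obtain ⟨s, hs, w, hw, rfl⟩ := CfsgLib.mem_sup_of_le_normalizer hXn hvD
      obtain ⟨e, he, q, hq, rfl⟩ := CfsgLib.mem_sup_of_le_normalizer hPn hs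
      have hqw : ∀ r ∈ P, Commute (q * w) r := fun r hr => by
        obtain ⟨k, rfl⟩ := mem_zpowers_iff.mp hw
        refine Commute.mul_left ?_ ((show Commute x0 r from c.cen_comm hx0c hr).zpow_left k)
        rw [hPgen] at hq hr
        obtain ⟨i, rfl⟩ := mem_zpowers_iff.mp hq
        obtain ⟨j, rfl⟩ := mem_zpowers_iff.mp hr
        exact Commute.zpow_zpow_self p i j
      have heP : ∀ r ∈ P, r * e = e * r := fun r hr => by
        have h3 : Commute (e * q * w) r := (mem_centralizer_iff.mp hvP r hr).symm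
        have h4 : Commute (e * q * w * (q * w)⁻¹) r := h3.mul_left (hqw r hr).inv_left
        rw [show e * q * w * (q * w)⁻¹ = e by group] at h4
        exact h4.symm.eq
      exact ⟨(⟨e, c.fpf e (mem_fixE.mp he).1 heP⟩, ⟨q, hq⟩, ⟨w, hw⟩), rfl⟩
    calc Nat.card ↥(centralizer ({p * y} : Set G)) ≤ Nat.card ↥(Set.range f) := Nat.card_mono (Set.toFinite _) hsub
      _ ≤ Nat.card (↥(zpowers z) × ↥P × ↥(zpowers x0)) := Finite.card_range_le f
      _ = 66 := by rw [Nat.card_prod, Nat.card_prod, c.card_Z, c.hP, Nat.card_zpowers, hx0]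
  have b44 : Nat.card ↥(centralizer ({a * x0} : Set G)) ≤ 44 := by
    refine le_trans (card_le_of_le (K := D ⊓ centralizer ({a} : Set G)) fun v hv => ?_) ?_
    · obtain ⟨h1, h2⟩ := parts_cent (n := 4) (m := 11) (by norm_num) hax.symm (pow_of_order ha4) (pow_of_order hx0) hv
      refine ⟨⟨?_, mem_centralizer_singleton_iff.mpr h2⟩, mem_centralizer_singleton_iff.mpr h1⟩
      rw [hH, ← haa]
      exact mem_centralizer_singleton_iff.mpr ((show Commute v a from h1).mul_right h1).eq
    let g : Fin 3 × Fin 2 → G := fun i => p ^ (i.1 : ℕ) * b ^ (i.2 : ℕ)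
    have hg : ∀ i : Fin 3 × Fin 2, g i * a * (g i)⁻¹ = p ^ (i.1 : ℕ) * a * (p ^ (i.1 : ℕ))⁻¹ * z ^ (i.2 : ℕ) := by
      rintro ⟨i, j⟩
      have hzp : z * (p ^ (i : ℕ))⁻¹ = (p ^ (i : ℕ))⁻¹ * z := ((show Commute z p from hpz.symm).pow_right _).inv_right.eq
      fin_cases j <;> simp only [g, Fin.zero_eta, Fin.mk_one, Fin.val_zero, Fin.val_one, pow_zero, pow_one, mul_one]
      rw [show p ^ (i : ℕ) * b * a * (p ^ (i : ℕ) * b)⁻¹ = p ^ (i : ℕ) * (b * a * b⁻¹) * (p ^ (i : ℕ))⁻¹ by group, hbab,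
        ← mul_assoc, mul_assoc _ z, hzp, ← mul_assoc]
    have hdistinct : Function.Injective fun i => g i * a * (g i)⁻¹ := by
      have base : ∀ k : ℕ, k = 1 ∨ k = 2 → ∀ w ∈ zpowers z, p ^ k * a * (p ^ k)⁻¹ ≠ a * w := by
        intro k hk w hw he
        have hkP : p ^ k ∈ P := pow_mem hp k
        have hwc : p ^ k * w * (p ^ k)⁻¹ = w := c.Z_conj (c.P_le hkP) hw
        have e2 : p ^ (k + k) * a * (p ^ (k + k))⁻¹ = a := by
          calc p ^ (k + k) * a * (p ^ (k + k))⁻¹ = p ^ k * (p ^ k * a * (p ^ k)⁻¹) * (p ^ k)⁻¹ := by rw [pow_add]; group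
            _ = p ^ k * a * (p ^ k)⁻¹ * (p ^ k * w * (p ^ k)⁻¹) := (congrArg (fun v => p ^ k * v * (p ^ k)⁻¹) he).trans (by group)
            _ = a * (w * w) := by rw [he, hwc, mul_assoc]
            _ = a := by rw [c.Z_sq hw, mul_one]
        have hcomm : ∀ r ∈ P, r * a = a * r := by
          intro r hr
          have hg2 : zpowers (p ^ (k + k)) = P := zpowers_of_mem c.hP (pow_mem hp _) (by
            rw [(Nat.Coprime.orderOf_pow (y := p) (m := k + k) (by rw [hp3]; rcases hk with rfl | rfl <;> norm_num)), hp3])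
          rw [← hg2] at hr
          obtain ⟨i, rfl⟩ := mem_zpowers_iff.mp hr
          exact ((show Commute (p ^ (k + k)) a from mul_inv_eq_iff_eq_mul.mp e2).zpow_left i).eq
        exact haZ (c.fpf a haE hcomm)
      intro i i' h
      simp only [hg] at h
      obtain ⟨i, j⟩ := i
      obtain ⟨i', j'⟩ := i'
      simp only at h
      wlog hle : (i : ℕ) ≤ i' generalizing i i' j j'
      · exact (this i' j' i j h.symm (by omega)).symm
      obtain ⟨k, hk⟩ : ∃ k, (i' : ℕ) = i + k := ⟨_, (Nat.add_sub_cancel' hle).symm⟩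
      have hwm : z ^ (j : ℕ) * (z ^ (j' : ℕ))⁻¹ ∈ zpowers z :=
        mul_mem (pow_mem (mem_zpowers z) _) (inv_mem (pow_mem (mem_zpowers z) _))
      have h1 : p ^ k * a * (p ^ k)⁻¹ = a * (z ^ (j : ℕ) * (z ^ (j' : ℕ))⁻¹) := by
        have hc1 := c.Z_conj (c.P_le (inv_mem (pow_mem hp i.1))) hwm
        rw [inv_inv] at hc1
        calc p ^ k * a * (p ^ k)⁻¹
            = (p ^ (i : ℕ))⁻¹ * (p ^ (i' : ℕ) * a * (p ^ (i' : ℕ))⁻¹ * z ^ (j' : ℕ) * (z ^ (j' : ℕ))⁻¹) * p ^ (i : ℕ) := by
              rw [hk, pow_add]; group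
          _ = a * ((p ^ (i : ℕ))⁻¹ * (z ^ (j : ℕ) * (z ^ (j' : ℕ))⁻¹) * p ^ (i : ℕ)) := by rw [← h]; group
          _ = _ := by rw [hc1]
      rcases Nat.eq_zero_or_pos k with rfl | hk0
      · obtain rfl : i = i' := Fin.ext (by omega)
        rw [pow_zero, one_mul, inv_one, mul_one, left_eq_mul, mul_inv_eq_one] at h1
        refine Prod.ext rfl ?_
        fin_cases j <;> fin_cases j' <;> simp [c.z_ne_one, Ne.symm c.z_ne_one] at h1 ⊢
      · exact absurd h1 (base k (by have := i'.2; omega) _ hwm)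
    have hgD : ∀ i, g i ∈ D := fun i => D.mul_mem (D.pow_mem hpD _) (D.pow_mem hbD _)
    let F : (Fin 3 × Fin 2) × ↥(D ⊓ centralizer ({a} : Set G)) → ↥D := fun w => ⟨g w.1 * w.2, D.mul_mem (hgD _) w.2.2.1⟩
    have hF : Function.Injective F := by
      rintro ⟨i, v⟩ ⟨j, w⟩ h
      have h' : g i * (v : G) = g j * w := congrArg Subtype.val h
      have hv : ∀ v : ↥(D ⊓ centralizer ({a} : Set G)), (v : G) * a * (v : G)⁻¹ = a := fun v =>
        mul_inv_eq_iff_eq_mul.mpr (mem_centralizer_singleton_iff.mp v.2.2)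
      obtain rfl : i = j := hdistinct (by
        show g i * a * (g i)⁻¹ = g j * a * (g j)⁻¹
        conv_lhs => rw [← hv v]
        conv_rhs => rw [← hv w]
        rw [show g i * ((v : G) * a * (v : G)⁻¹) * (g i)⁻¹ = g i * v * a * (g i * v)⁻¹ by group, h']; group)
      rw [Subtype.ext (mul_left_cancel h')]
    have h6 := Nat.card_le_card_of_injective F hF
    rw [Nat.card_prod, Nat.card_prod, Nat.card_fin, Nat.card_fin, hD] at h6
    omega
  -- the sections
  have hninv : ∀ (h : G), h * p * h⁻¹ = p → h * x0 * h⁻¹ ≠ x0⁻¹ := fun h h1 h2 => by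
    have hhP : h ∈ centralizer (P : Set G) := by
      rw [hPgen, ← cent_eq_zpowers]; exact mem_centralizer_singleton_iff.mpr (mul_inv_eq_iff_eq_mul.mp h1)
    exact no_inverter c hx0 hx0c ⟨c.norm_P hG (hinv_of_type hJ') (centralizer_le_normalizer _ hhP), hhP⟩ h2
  have n33 : ¬ IsConj (p * x0) (p * x0⁻¹) := fun h => by
    obtain ⟨g, h1, h2⟩ := parts_conj (n := 3) (m := 11) (by norm_num) hpx hpxi (pow_of_order hp3) (pow_of_order hp3)
      (pow_of_order hx0) (pow_of_order hx0i) h
    exact hninv g h1 h2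
  have o33 := order_parts (show Nat.Coprime 3 11 by norm_num) hpx hp3 hx0
  have o33i := order_parts (show Nat.Coprime 3 11 by norm_num) hpxi hp3 hx0i
  have hzpx : z * (p * x0) = p * x0 * z :=
    ((show Commute z p from hpz.symm).mul_right (show Commute z x0 from hz0.symm)).eq
  have hzpxi : z * (p * x0⁻¹) = p * x0⁻¹ * z :=
    ((show Commute z p from hpz.symm).mul_right (show Commute z x0 from hz0.symm).inv_right).eq
  refine ⟨Sec.two hx0 hx1 hR.cardC.le hC1.le hne,
    Sec.two (order_parts (n := 2) (m := 11) (by norm_num) hz0.symm hz2 hx0)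
      (order_parts (n := 2) (m := 11) (by norm_num) hxt.symm ht2 hx1) b22a b22b (fun h => ?_),
    Sec.two o33 o33i (b66 _ (Or.inl rfl)) (b66 _ (Or.inr rfl)) n33,
    Sec.one (order_parts (n := 4) (m := 11) (by norm_num) hax.symm ha4 hx0) b44,
    Sec.two (order_parts (n := 2) (m := 33) (by norm_num) hzpx hz2 o33)
      (order_parts (n := 2) (m := 33) (by norm_num) hzpxi hz2 o33i) ?_ ?_ (fun h => ?_)⟩
  · obtain ⟨g, -, h2⟩ := parts_conj (n := 2) (m := 11) (by norm_num) hz0.symm hxt.symm (pow_of_order hz2)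
      (pow_of_order ht2) (pow_of_order hx0) (pow_of_order hx1) h
    exact hne (isConj_iff.mpr ⟨g, h2⟩)
  · refine le_trans (card_le_of_le fun v hv => ?_) (b66 _ (Or.inl rfl))
    exact mem_centralizer_singleton_iff.mpr
      (parts_cent (n := 2) (m := 33) (by norm_num) hzpx (pow_of_order hz2) (pow_of_order o33) hv).2
  · refine le_trans (card_le_of_le fun v hv => ?_) (b66 _ (Or.inr rfl))
    exact mem_centralizer_singleton_iff.mpr
      (parts_cent (n := 2) (m := 33) (by norm_num) hzpxi (pow_of_order hz2) (pow_of_order o33i) hv).2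
  · obtain ⟨g, -, h2⟩ := parts_conj (n := 2) (m := 33) (by norm_num) hzpx hzpxi (pow_of_order hz2)
      (pow_of_order hz2) (pow_of_order o33) (pow_of_order o33i) h
    exact n33 (isConj_iff.mpr ⟨g, h2⟩)

end CfsgLib.J4Classes
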