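import Cfsg.Agent.Lib.J4Classes.Section
import Cfsg.Agent.Lib.JankoFour.FiveStruct

/-!
The nine classes of elements of order prime to three in a nonsplit extension of an elementary abelian group of
order eight by SL(3,2) with an element of order eight.
-/

set_option autoImplicit false
set_option linter.style.haveILetI false

namespace CfsgLib.J4Classes

open Subgroup

universe u

namespace Mod8

/-- A linear map of the space of order eight, by the images of 1, 2, 4. -/
abbrev Tri := ℕ × ℕ × ℕ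

/-- Application. -/
def app (A : Tri) (v : ℕ) : ℕ :=
  (if v % 2 = 1 then A.1 else 0) ^^^ (if v / 2 % 2 = 1 then A.2.1 else 0) ^^^ (if v / 4 % 2 = 1 then A.2.2 else 0)

/-- Composition. -/
def mulT (A B : Tri) : Tri := (app A B.1, app A B.2.1, app A B.2.2)

/-- The identity. -/
def idT : Tri := (1, 2, 4)

/-- Equality test. -/
def eqT (A B : Tri) : Bool := Nat.beq A.1 B.1 && Nat.beq A.2.1 B.2.1 && Nat.beq A.2.2 B.2.2

theorem eqT_iff {A B : Tri} : eqT A B = true ↔ A = B := by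
  obtain ⟨a, b, c⟩ := A
  obtain ⟨a', b', c'⟩ := B
  simp only [eqT, Bool.and_eq_true, Prod.mk.injEq, and_assoc]
  exact ⟨fun h => ⟨Nat.eq_of_beq_eq_true h.1, Nat.eq_of_beq_eq_true h.2.1, Nat.eq_of_beq_eq_true h.2.2⟩,
    fun ⟨h1, h2, h3⟩ => ⟨by rw [h1]; exact Nat.beq_refl _, by rw [h2]; exact Nat.beq_refl _,
      by rw [h3]; exact Nat.beq_refl _⟩⟩

/-- All invertible maps. -/
def gl : List Tri :=
  ((List.range 512).map fun n => (n % 8, n / 8 % 8, n / 64)).filter fun A =>
    (List.range 8).all fun v => Nat.beq v 0 || !Nat.beq (app A v) 0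

theorem gl_ok : gl.length = 168 ∧ gl.Nodup := by decide +kernel

theorem mem_gl : ∀ a < 8, ∀ b < 8, ∀ c < 8, (∀ v < 8, v ≠ 0 → app (a, b, c) v ≠ 0) → (a, b, c) ∈ gl := by
  intro a ha b hb c hc h
  refine List.mem_filter.mpr ⟨List.mem_map.mpr ⟨a + 8 * b + 64 * c, List.mem_range.mpr (by omega),
    Prod.ext (by simp only; omega) (Prod.ext (by simp only; omega) (by simp only; omega))⟩, ?_⟩
  simp only [List.all_eq_true, List.mem_range, Bool.or_eq_true, Bool.not_eq_true']
  intro v hv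
  by_cases h0 : v = 0
  · exact Or.inl (by rw [h0]; rfl)
  · refine Or.inr ?_
    have h1 := h v hv h0
    cases h2 : Nat.beq (app (a, b, c) v) 0
    · rfl
    · exact absurd (Nat.eq_of_beq_eq_true h2) h1

/-- The regular unipotent map. -/
def A4 : Tri := (1, 3, 6)
/-- Its square. -/
def X2 : Tri := (1, 2, 5)
/-- An involution inverting it. -/
def R2 : Tri := (1, 3, 5)
/-- An element of order seven. -/
def B7 : Tri := (2, 4, 3)
/-- Its inverse. -/
def C7 : Tri := mulT B7 (mulT B7 (mulT B7 (mulT B7 (mulT B7 B7))))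

/-- The four non-trivial representatives. -/
def reps : List Tri := [X2, A4, B7, C7]

theorem cover_ok : (gl.all fun A => eqT A idT || eqT (mulT A (mulT A A)) idT ||
    reps.any fun R => gl.any fun B => eqT (mulT B A) (mulT R B)) = true := by decide +kernel

theorem sep_ok : ([idT, X2, A4, B7, C7].all fun R => [idT, X2, A4, B7, C7].all fun R' =>
    eqT R R' || gl.all fun B => !eqT (mulT B R) (mulT R' B)) = true := by decide +kernel

theorem centA_ok : (gl.all fun B => !eqT (mulT B A4) (mulT A4 B) ||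
    [idT, A4, X2, mulT A4 X2].any (eqT B)) = true := by decide +kernel

theorem centX_ok : (gl.all fun B => !eqT (mulT B X2) (mulT X2 B) ||
    [idT, A4, X2, mulT A4 X2, R2, mulT A4 R2, mulT X2 R2, mulT (mulT A4 X2) R2].any (eqT B)) = true := by decide +kernel

theorem misc_ok : eqT (mulT A4 A4) X2 = true ∧ eqT (mulT X2 X2) idT = true ∧ eqT (mulT R2 R2) idT = true ∧
    eqT (mulT B7 C7) idT = true ∧ eqT (mulT R2 A4) (1, 2, 6) = true ∧
    (gl.any fun B => eqT (mulT B X2) (mulT R2 B)) = true ∧ gl.elem R2 = true ∧ gl.elem B7 = true ∧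
    gl.elem C7 = true := by decide +kernel

theorem fix_ok : (∀ v < 8, app A4 v = v → v = 0 ∨ v = 1) ∧ (∀ v < 8, app (1, 2, 6) v = v → v < 4) ∧
    (∀ v < 4, (v ^^^ app (mulT A4 X2) v) = 0 ∨ (v ^^^ app (mulT A4 X2) v) = 1) ∧
    (∀ v < 8, v ≠ 0 → (gl.any fun B => Nat.beq (app B v) 1) = true) := by decide +kernel

theorem orbit_ok : (∀ v < 8, ∃ u < 8, (app B7 u ^^^ v ^^^ u) = 0) ∧ (∀ v < 8, ∃ u < 8, (app C7 u ^^^ v ^^^ u) = 0) ∧
    (∀ v < 8, ∃ u < 8, (app A4 u ^^^ v ^^^ u) = 0 ∨ (app A4 u ^^^ v ^^^ u) = 4) ∧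
    (∀ v < 8, ∃ u < 8, ((app X2 u ^^^ v ^^^ u) = 4 ∨ (app X2 u ^^^ v ^^^ u) = 0 ∨ (app X2 u ^^^ v ^^^ u) = 2) ∨
      ((app X2 u ^^^ app A4 v ^^^ u) = 4 ∨ (app X2 u ^^^ app A4 v ^^^ u) = 0 ∨ (app X2 u ^^^ app A4 v ^^^ u) = 2)) ∧
    (∀ u < 8, (app A4 u ^^^ u) < 4) ∧ (∀ u < 8, ∀ v < 2, (app X2 u ^^^ v ^^^ u) < 2) ∧
    (∀ v < 2, app A4 v < 2 ∧ app X2 v < 2 ∧ app (mulT A4 X2) v < 2) := by decide +kernel

theorem pair_table : ∀ u < 8, ∀ v < 8,
    (if (u ^^^ v) % 2 = 1 then 1 else 0) = ((u % 2) + v % 2) % 2 ∧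
    (if (u ^^^ v) / 2 % 2 = 1 then 1 else 0) = ((u / 2 % 2) + v / 2 % 2) % 2 ∧
    (if (u ^^^ v) / 4 % 2 = 1 then 1 else 0) = ((u / 4 % 2) + v / 4 % 2) % 2 ∧ (u ^^^ v) < 8 := by
  decide +kernel

end Mod8

open Mod8

/-- Coordinates on a subgroup of order eight and exponent two. -/
theorem exists_coord {J : Type u} [Group J] [Finite J] (N : Subgroup J) (h8 : Nat.card N = 8)
    (h2 : ∀ n ∈ N, n * n = 1) :
    ∃ ι : ℕ → J, (∀ v, ι v ∈ N) ∧ (∀ u < 8, ∀ v < 8, ι (u ^^^ v) = ι u * ι v) ∧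
      (∀ v < 8, ι v = 1 → v = 0) ∧ ∀ n ∈ N, ∃ v < 8, ι v = n := by
  classical
  have hinv : ∀ n ∈ N, n⁻¹ = n := fun n hn => inv_eq_of_mul_eq_one_right (h2 n hn)
  have hab : ∀ a ∈ N, ∀ b ∈ N, Commute a b := fun a ha b hb => by
    show a * b = b * a
    conv_lhs => rw [← hinv _ (N.mul_mem ha hb), mul_inv_rev, hinv a ha, hinv b hb]
  haveI : Fintype N := Fintype.ofFinite _
  rw [Nat.card_eq_fintype_card] at h8
  have pick : ∀ l : Finset N, l.card < 8 → ∃ a : N, a ∉ l := fun l hl => by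
    by_contra hc
    push Not at hc
    have := Finset.eq_univ_iff_forall.mpr hc
    rw [this, Finset.card_univ, h8] at hl
    exact lt_irrefl _ hl
  obtain ⟨⟨a, ha⟩, na⟩ := pick {1} (by simp)
  obtain ⟨⟨b, hb⟩, nb⟩ := pick {1, ⟨a, ha⟩} (lt_of_le_of_lt (Finset.card_le_two) (by norm_num))
  obtain ⟨⟨c, hc⟩, nc⟩ := pick {1, ⟨a, ha⟩, ⟨b, hb⟩, ⟨a * b, N.mul_mem ha hb⟩}
    (lt_of_le_of_lt Finset.card_le_four (by norm_num))
  simp only [Finset.mem_insert, Finset.mem_singleton, not_or, Subtype.ext_iff, OneMemClass.coe_one] at na nb nc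
  let ι : ℕ → J := fun v => a ^ (v % 2) * b ^ (v / 2 % 2) * c ^ (v / 4 % 2)
  have hmem : ∀ v, ι v ∈ N := fun v => N.mul_mem (N.mul_mem (N.pow_mem ha _) (N.pow_mem hb _)) (N.pow_mem hc _)
  have hpow : ∀ n ∈ N, ∀ i j : ℕ, n ^ ((i + j) % 2) = n ^ i * n ^ j := fun n hn i j => by
    rw [← pow_add]
    conv_rhs => rw [← Nat.mod_add_div (i + j) 2, pow_add, pow_mul, pow_two, h2 n hn, one_pow, mul_one]
  have hhom : ∀ u < 8, ∀ v < 8, ι (u ^^^ v) = ι u * ι v := by
    intro u hu v hv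
    obtain ⟨e1, e2, e3, -⟩ := pair_table u hu v hv
    have f : ∀ w : ℕ, (if w % 2 = 1 then 1 else 0) = w % 2 := fun w => by
      rcases Nat.mod_two_eq_zero_or_one w with h | h <;> simp [h]
    rw [f] at e1 e2 e3
    simp only [ι]
    rw [e1, e2, e3, hpow a ha, hpow b hb, hpow c hc]
    have k1 : Commute (b ^ (u / 2 % 2) * c ^ (u / 4 % 2)) (a ^ (v % 2)) :=
      hab _ (N.mul_mem (N.pow_mem hb _) (N.pow_mem hc _)) _ (N.pow_mem ha _)
    have k2 : Commute (c ^ (u / 4 % 2)) (b ^ (v / 2 % 2)) := hab _ (N.pow_mem hc _) _ (N.pow_mem hb _)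
    calc a ^ (u % 2) * a ^ (v % 2) * (b ^ (u / 2 % 2) * b ^ (v / 2 % 2)) * (c ^ (u / 4 % 2) * c ^ (v / 4 % 2))
        = a ^ (u % 2) * a ^ (v % 2) * b ^ (u / 2 % 2) * (b ^ (v / 2 % 2) * c ^ (u / 4 % 2)) * c ^ (v / 4 % 2) := by group
      _ = a ^ (u % 2) * (a ^ (v % 2) * (b ^ (u / 2 % 2) * c ^ (u / 4 % 2))) * b ^ (v / 2 % 2) * c ^ (v / 4 % 2) := by
          rw [← k2.eq]; group
      _ = _ := by rw [← k1.eq]; group
  have hinj : ∀ v < 8, ι v = 1 → v = 0 := by
    intro v hv h
    have e : ∀ {p q : J}, p ∈ N → p * q = 1 → q = p := fun {p q} hp h => by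
      rw [← inv_eq_of_mul_eq_one_right h, hinv p hp]
    interval_cases v <;> simp [ι] at h <;> try rfl
    · exact absurd h na
    · exact absurd h nb.1
    · exact absurd (e ha h) nb.2
    · exact absurd h nc.1
    · exact absurd (e ha h) nc.2.1
    · exact absurd (e hb h) nc.2.2.1
    · exact absurd (e (N.mul_mem ha hb) h) nc.2.2.2
  refine ⟨ι, hmem, hhom, hinj, fun n hn => ?_⟩
  have hb' : Function.Bijective (fun v : Fin 8 => (⟨ι v, hmem v⟩ : N)) := by
    rw [Fintype.bijective_iff_injective_and_card]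
    refine ⟨fun u v huv => ?_, by rw [Fintype.card_fin, h8]⟩
    have h1 : ι u = ι v := congrArg Subtype.val huv
    have h2' := hhom u u.2 v v.2
    rw [h1, h2 _ (hmem v)] at h2'
    exact Fin.ext (Nat.xor_eq_zero_iff.mp (hinj _ (pair_table u u.2 v v.2).2.2.2 h2'))
  obtain ⟨v, hv⟩ := hb'.2 ⟨n, hn⟩
  exact ⟨v, v.2, congrArg Subtype.val hv⟩

/-- The nine classes. -/
theorem exists_nine {J : Type u} [Group J] [Finite J] (N : Subgroup J) [N.Normal] (h8 : Nat.card N = 8)
    (h2 : ∀ n ∈ N, n * n = 1) (hnc : ¬ N ≤ center J)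
    (φ : J ⧸ N ≃* Matrix.SpecialLinearGroup (Fin 3) (ZMod 2)) {x : J} (hx4 : x ^ 4 ≠ 1) (hx8 : x ^ 8 = 1) :
    ∃ r : Fin 9 → J, (∀ i, (r i) ^ 56 = 1) ∧ (∀ i j, IsConj (r i) (r j) → i = j) ∧
      ∀ g : J, ¬ 3 ∣ orderOf g → ∃ i, IsConj g (r i) := by
  classical
  obtain ⟨ι, hιN, hhom, hinj, hsurj⟩ := exists_coord N h8 h2
  have ι0 : ι 0 = 1 := by
    have h := hhom 0 (by norm_num) 0 (by norm_num)
    rw [Nat.xor_self] at h
    exact left_eq_mul.mp h
  have hlab : ∀ (j : J) (v : ℕ), ∃ w < 8, ι w = j * ι v * j⁻¹ := fun j v =>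
    hsurj _ (Subgroup.Normal.conj_mem inferInstance _ (hιN v) j)
  have huniq : ∀ u < 8, ∀ v < 8, ι u = ι v → u = v := fun u hu v hv h => by
    refine Nat.xor_eq_zero_iff.mp (hinj _ (pair_table u hu v hv).2.2.2 ?_)
    rw [hhom u hu v hv, h, h2 _ (hιN v)]
  choose lab hlab8 hlabe using hlab
  let ψ : J → Tri := fun j => (lab j 1, lab j 2, lab j 4)
  have hxor : ∀ {u v : ℕ}, u < 8 → v < 8 → (u ^^^ v) < 8 := fun hu hv => (pair_table _ hu _ hv).2.2.2
  have happ8 : ∀ j v, app (ψ j) v < 8 := fun j v => by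
    have h0 : (0 : ℕ) < 8 := by norm_num
    unfold app
    refine hxor (hxor ?_ ?_) ?_ <;> split <;> first | exact hlab8 _ _ | exact h0
  have heqv : ∀ (j : J), ∀ v < 8, j * ι v * j⁻¹ = ι (app (ψ j) v) := by
    intro j v hv
    have key : ∀ b c, b < 8 → c < 8 → j * ι (b ^^^ c) * j⁻¹ = (j * ι b * j⁻¹) * (j * ι c * j⁻¹) :=
      fun b c hb hc => by rw [hhom b hb c hc]; group
    have e1 := hlabe j 1
    have e2 := hlabe j 2
    have e4 := hlabe j 4
    have l1 := hlab8 j 1
    have l2 := hlab8 j 2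
    have l4 := hlab8 j 4
    have e3 : j * ι 3 * j⁻¹ = ι (lab j 1 ^^^ lab j 2) := by
      rw [hhom _ l1 _ l2, e1, e2]; exact key 1 2 (by norm_num) (by norm_num)
    interval_cases v <;> simp only [app, ψ] <;> norm_num
    · rw [ι0, mul_one, mul_inv_cancel]
    · exact e1.symm
    · exact e2.symm
    · exact e3
    · exact e4.symm
    · rw [hhom _ l1 _ l4, e1, e4]; exact key 1 4 (by norm_num) (by norm_num)
    · rw [hhom _ l2 _ l4, e2, e4]; exact key 2 4 (by norm_num) (by norm_num)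
    · rw [hhom _ (hxor l1 l2) _ l4, ← e3, e4]; exact key 3 4 (by norm_num) (by norm_num)
  have hmul : ∀ j k, ψ (j * k) = mulT (ψ j) (ψ k) := by
    intro j k
    have key : ∀ v, lab (j * k) v = app (ψ j) (lab k v) := fun v => by
      refine huniq _ (hlab8 _ _) _ (happ8 _ _) ?_
      rw [← heqv _ _ (hlab8 k v), hlabe, hlabe]; group
    exact Prod.ext (key 1) (Prod.ext (key 2) (key 4))
  have hψN : ∀ n ∈ N, ψ n = idT := by
    intro n hn
    have key : ∀ v < 8, lab n v = v := fun v hv => by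
      refine huniq _ (hlab8 _ _) _ hv ?_
      obtain ⟨w, hw, rfl⟩ := hsurj n hn
      rw [hlabe, ← hhom w hw v hv, Nat.xor_comm, hhom v hv w hw, mul_inv_cancel_right]
    exact Prod.ext (key 1 (by norm_num)) (Prod.ext (key 2 (by norm_num)) (key 4 (by norm_num)))
  have hgl : ∀ j, ψ j ∈ gl := fun j => mem_gl _ (hlab8 _ _) _ (hlab8 _ _) _ (hlab8 _ _) fun v hv hv0 h => by
    refine hv0 (hinj v hv ?_)
    have h1 := heqv j v hv
    rw [show app (ψ j) v = 0 from h, ι0] at h1
    exact conj_eq_one_iff.mp h1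
  have hker : ∀ j, ψ j = idT → j ∈ N := by
    let K := centralizer (N : Set J)
    haveI : IsSimpleGroup (J ⧸ N) := by
      haveI := Cfsg.Agent.S0249.result (F := ZMod 2) 3 (le_refl 3)
      obtain ⟨g⟩ := CfsgLib.JankoFour.psl_equiv_sl
      haveI : Nontrivial (J ⧸ N) := Finite.one_lt_card_iff_nontrivial.mp
        (by rw [Nat.card_congr φ.toEquiv, CfsgLib.JankoFour.card_sl_three]; norm_num)
      exact IsSimpleGroup.isSimpleGroup_of_surjective (φ.trans g.symm).symm.toMonoidHom (φ.trans g.symm).symm.surjective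
    intro j hj
    have hjK : j ∈ K := mem_centralizer_iff.mpr fun n hn => by
      obtain ⟨v, hv, rfl⟩ := hsurj n hn
      have h1 := heqv j v hv
      rw [hj, show app idT v = v by interval_cases v <;> rfl] at h1
      exact (mul_inv_eq_iff_eq_mul.mp h1).symm
    haveI : K.Normal := Subgroup.normal_centralizer (H := N)
    rcases (Subgroup.Normal.map inferInstance (QuotientGroup.mk' N) (QuotientGroup.mk'_surjective N) :
        (K.map (QuotientGroup.mk' N)).Normal).eq_bot_or_eq_top with h | h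
    · rw [Subgroup.map_eq_bot_iff, QuotientGroup.ker_mk'] at h
      exact h hjK
    · refine absurd (fun n hn => mem_center_iff.mpr fun g => ?_) hnc
      have hNK : N ≤ K := fun a ha => mem_centralizer_iff.mpr fun b hb => by
        obtain ⟨u, hu, rfl⟩ := hsurj a ha
        obtain ⟨v, hv, rfl⟩ := hsurj b hb
        rw [← hhom u hu v hv, ← hhom v hv u hu, Nat.xor_comm]
      have htop : K = ⊤ := by
        have := congrArg (Subgroup.comap (QuotientGroup.mk' N)) h
        rwa [comap_top, comap_map_eq, QuotientGroup.ker_mk', sup_eq_left.mpr hNK] at this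
      exact ((mem_centralizer_iff.mp (htop ▸ mem_top g : g ∈ K)) n hn).symm
  have hcancel : ∀ j k, ψ j = ψ k → ∃ v < 8, j = ι v * k := by
    intro j k h
    obtain ⟨v, hv, e⟩ := hsurj (j * k⁻¹) (hker _ (by rw [hmul, h, ← hmul, mul_inv_cancel, hψN 1 N.one_mem]))
    exact ⟨v, hv, by rw [e]; group⟩
  have hlift : ∀ A ∈ gl, ∃ j, ψ j = A := by
    let f : J ⧸ N → {A // A ∈ gl.toFinset} := Quotient.lift (fun j => ⟨ψ j, List.mem_toFinset.mpr (hgl j)⟩)
      fun a b hab => Subtype.ext (by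
        have hm := QuotientGroup.leftRel_apply.mp hab
        show ψ a = ψ b
        rw [show b = (a * (a⁻¹ * b) * a⁻¹) * a by group, hmul, hψN _ (Subgroup.Normal.conj_mem inferInstance _ hm a)]
        obtain ⟨h1, h2', h3⟩ : lab a 1 < 8 ∧ lab a 2 < 8 ∧ lab a 4 < 8 := ⟨hlab8 _ _, hlab8 _ _, hlab8 _ _⟩
        have hid : ∀ v < 8, app idT v = v := by decide +kernel
        exact (Prod.ext (hid _ h1) (Prod.ext (hid _ h2') (hid _ h3))).symm)
    have hf : Function.Injective f := by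
      intro a b
      induction a using Quotient.inductionOn with
      | _ a =>
        induction b using Quotient.inductionOn with
        | _ b =>
          intro h
          obtain ⟨v, hv, e⟩ := hcancel b a (congrArg Subtype.val h).symm
          refine Quotient.sound (QuotientGroup.leftRel_apply.mpr ?_)
          rw [e, ← mul_assoc]
          simpa using Subgroup.Normal.conj_mem (inferInstance : N.Normal) _ (hιN v) a⁻¹
    have hb := hf.bijective_of_nat_card_le (by
      rw [Nat.card_congr φ.toEquiv, CfsgLib.JankoFour.card_sl_three, Nat.card_eq_fintype_card, Fintype.card_coe,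
        List.toFinset_card_of_nodup gl_ok.2, gl_ok.1])
    intro A hA
    obtain ⟨q, hq⟩ := hb.2 ⟨A, List.mem_toFinset.mpr hA⟩
    obtain ⟨j, rfl⟩ := Quotient.exists_rep q
    exact ⟨j, congrArg Subtype.val hq⟩
  have hconjψ : ∀ h j : J, mulT (ψ h) (ψ j) = mulT (ψ (h * j * h⁻¹)) (ψ h) := fun h j => by
    rw [← hmul, ← hmul]; congr 1; group
  have hto : ∀ j B R, B ∈ gl → mulT B (ψ j) = mulT R B → R ∈ gl → ∃ h, ψ (h * j * h⁻¹) = R := by
    intro j B R hB he hR
    obtain ⟨h, rfl⟩ := hlift B hB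
    obtain ⟨k, rfl⟩ := hlift R hR
    refine ⟨h, ?_⟩
    obtain ⟨v, hv, e⟩ := hcancel (h * j) (k * h) (by rw [hmul, hmul, he])
    rw [e, show ι v * (k * h) * h⁻¹ = ι v * k by group, hmul, hψN _ (hιN v)]
    have hid : ∀ v < 8, app idT v = v := by decide +kernel
    exact Prod.ext (hid _ (hlab8 _ _)) (Prod.ext (hid _ (hlab8 _ _)) (hid _ (hlab8 _ _)))
  obtain ⟨mA, mX, mR, mB, mT, mXR, glR, glB, glC⟩ := misc_ok
  rw [eqT_iff] at mA mX mR mB mT
  obtain ⟨fixA, fixT, fixW, trans8⟩ := fix_ok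
  obtain ⟨orbB, orbC, orbA, orbX, keepA, keepX, keep1⟩ := orbit_ok
  -- the element of order eight over the regular unipotent
  have hsq : ∀ {j : J}, ψ j = idT → j * j = 1 := fun h => h2 _ (hker _ h)
  obtain ⟨g, hg, hg4⟩ : ∃ g, ψ g = A4 ∧ g * g * (g * g) ≠ 1 := by
    have hc := List.all_eq_true.mp cover_ok _ (hgl x)
    simp only [Bool.or_eq_true, eqT_iff, List.any_eq_true] at hc
    have h44 : x * x * (x * x) ≠ 1 := by rw [show x * x * (x * x) = x ^ 4 by simp [pow_succ, mul_assoc]]; exact hx4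
    rcases hc with (hid | h3) | ⟨R, hR, B, hB, he⟩
    · exact absurd (by rw [hsq hid, mul_one]) h44
    · exfalso
      have h3' : x ^ 3 ∈ N := hker _ (by rw [show x ^ 3 = x * (x * x) by simp [pow_succ, mul_assoc], hmul, hmul, h3])
      have h8' : x ^ 8 ∈ N := by rw [hx8]; exact N.one_mem
      have : x ∈ N := by
        rw [show x = (x ^ 3) ^ 3 * (x ^ 8)⁻¹ by rw [← pow_mul, show 3 * 3 = 1 + 8 from rfl, pow_add, pow_one]; group]
        exact N.mul_mem (N.pow_mem h3' 3) (N.inv_mem h8')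
      exact h44 (by rw [h2 x this, mul_one])
    · have hglA : A4 ∈ gl := by decide +kernel
      have hglX : X2 ∈ gl := by decide +kernel
      simp only [reps, List.mem_cons, List.not_mem_nil, or_false] at hR
      rcases hR with rfl | rfl | rfl | rfl
      · exfalso
        obtain ⟨h, hh⟩ := hto x B X2 hB he hglX
        have h1 := hsq (j := h * x * h⁻¹ * (h * x * h⁻¹)) (by rw [hmul, hh, mX])
        have h0 : h * (x * x * (x * x)) * h⁻¹ = 1 := by rw [← h1]; group
        exact h44 (conj_eq_one_iff.mp h0)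
      · obtain ⟨h, hh⟩ := hto x B A4 hB he hglA
        refine ⟨h * x * h⁻¹, hh, fun h1 => ?_⟩
        have h0 : h * (x * x * (x * x)) * h⁻¹ = 1 := by rw [← h1]; group
        exact h44 (conj_eq_one_iff.mp h0)
      · exfalso
        obtain ⟨h, hh⟩ := hto x B B7 hB he (List.mem_of_elem_eq_true glB)
        have h1 : h * x * h⁻¹ * (h * x * h⁻¹) * (h * x * h⁻¹ * (h * x * h⁻¹)) *
            (h * x * h⁻¹ * (h * x * h⁻¹) * (h * x * h⁻¹ * (h * x * h⁻¹))) = 1 := by
          have := congrArg (fun a => h * a * h⁻¹) hx8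
          simp only [mul_one, mul_inv_cancel] at this
          rw [← this, show x ^ 8 = x * x * x * x * x * x * x * x by simp [pow_succ, mul_assoc]]; group
        have := congrArg ψ h1
        rw [hmul, hmul, hmul, hh, hψN 1 N.one_mem] at this
        exact absurd this (by decide +kernel)
      · exfalso
        obtain ⟨h, hh⟩ := hto x B C7 hB he (List.mem_of_elem_eq_true glC)
        have h1 : h * x * h⁻¹ * (h * x * h⁻¹) * (h * x * h⁻¹ * (h * x * h⁻¹)) *
            (h * x * h⁻¹ * (h * x * h⁻¹) * (h * x * h⁻¹ * (h * x * h⁻¹))) = 1 := by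
          have := congrArg (fun a => h * a * h⁻¹) hx8
          simp only [mul_one, mul_inv_cancel] at this
          rw [← this, show x ^ 8 = x * x * x * x * x * x * x * x by simp [pow_succ, mul_assoc]]; group
        have := congrArg ψ h1
        rw [hmul, hmul, hmul, hh, hψN 1 N.one_mem] at this
        exact absurd this (by decide +kernel)
  set y := g * g with hy
  have hyψ : ψ y = X2 := by rw [hy, hmul, hg, mA]
  obtain ⟨w, hw, hyw⟩ := hsurj (y * y) (hker _ (by rw [hmul, hyψ, mX]))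
  have hw1 : w = 1 := by
    refine (fixA w hw (huniq _ (hg ▸ happ8 g w) _ hw ?_)).resolve_left fun h => hg4 (by rw [← hyw, h, ι0])
    rw [← hg, ← heqv g w hw, hyw, hy]; group
  rw [hw1] at hyw
  -- moving coordinates through elements
  have hpush : ∀ j : J, ∀ v < 8, j * ι v = ι (app (ψ j) v) * j := fun j v hv => by
    rw [← heqv j v hv]; group
  have hιι : ∀ v, ι v * ι v = 1 := fun v => h2 _ (hιN v)
  have hιinv : ∀ v, (ι v)⁻¹ = ι v := fun v => inv_eq_of_mul_eq_one_right (hιι v)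
  have hsqι : ∀ v < 8, y * ι v * (y * ι v) = ι (app X2 v ^^^ 1 ^^^ v) := by
    intro v hv
    have h1 : app X2 v < 8 := hyψ ▸ happ8 y v
    rw [hhom _ (hxor h1 (by norm_num)) v hv, hhom _ h1 1 (by norm_num), hyw,
      show y * ι v * (y * ι v) = (y * ι v) * y * ι v by group, hpush y v hv, hyψ]
    group
  have hz2 : y * ι 4 * (y * ι 4) = 1 := by
    rw [hsqι 4 (by norm_num), show (app X2 4 ^^^ 1 ^^^ 4) = 0 by decide, ι0]
  -- an involution inverting
  obtain ⟨r, hr, hr2⟩ : ∃ r, ψ r = R2 ∧ r * r = 1 := by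
    obtain ⟨B, hB, he⟩ := List.any_eq_true.mp mXR
    have hzψ : ψ (y * ι 4) = X2 := by rw [hmul, hyψ, hψN _ (hιN 4)]; decide
    obtain ⟨h, hh⟩ := hto (y * ι 4) B R2 hB (by rw [hzψ]; exact eqT_iff.mp he) (List.mem_of_elem_eq_true glR)
    exact ⟨_, hh, by rw [show h * (y * ι 4) * h⁻¹ * (h * (y * ι 4) * h⁻¹) = h * (y * ι 4 * (y * ι 4)) * h⁻¹ by group,
      hz2, mul_one, mul_inv_cancel]⟩
  have hrinv : r⁻¹ = r := inv_eq_of_mul_eq_one_right hr2
  obtain ⟨W, hW, hWe⟩ := hsurj (r * g * (r * g)) (hker _ (by rw [hmul, hmul, hr, hg, mT]; decide))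
  have hW4 : W < 4 := fixT W hW (huniq _ (by have := happ8 (r * g) W; rwa [hmul, hr, hg, mT] at this) _ hW (by
    rw [← mT, ← hr, ← hg, ← hmul, ← heqv _ _ hW, hWe]; group))
  have hgiψ : ψ g⁻¹ = mulT A4 X2 := by
    have e : g⁻¹ = g * y * ι 1 := by
      refine inv_eq_of_mul_eq_one_right ?_
      rw [show g * (g * y * ι 1) = g * g * y * ι 1 by group, ← hy, ← hyw, hιι]
    rw [e, hmul, hmul, hg, hyψ, hψN _ (hιN 1)]; decide
  obtain ⟨u', hu', hry⟩ : ∃ u' < 2, r * y * r⁻¹ = ι u' * y := by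
    have e1 : r * g * r⁻¹ = ι W * g⁻¹ := by rw [hWe, hrinv]; group
    have hyi : y⁻¹ = ι 1 * y := inv_eq_of_mul_eq_one_right (by
      rw [← mul_assoc, hpush y 1 (by norm_num), hyψ, show app X2 1 = 1 by decide, mul_assoc, ← hyw, hιι])
    have e2 : r * y * r⁻¹ = ι ((W ^^^ app (mulT A4 X2) W) ^^^ 1) * y := by
      have h8' : app (mulT A4 X2) W < 8 := hgiψ ▸ happ8 g⁻¹ W
      rw [hhom _ (hxor hW h8') 1 (by norm_num), hhom W hW _ h8', ← hgiψ,
        show r * y * r⁻¹ = (r * g * r⁻¹) * (r * g * r⁻¹) by rw [hy]; group, e1,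
        show ι W * g⁻¹ * (ι W * g⁻¹) = ι W * (g⁻¹ * ι W) * g⁻¹ by group, hpush g⁻¹ W hW]
      rw [show ι W * (ι (app (ψ g⁻¹) W) * g⁻¹) * g⁻¹ = ι W * ι (app (ψ g⁻¹) W) * y⁻¹ by rw [hy]; group, hyi]
      group
    refine ⟨_, ?_, e2⟩
    rcases fixW W hW4 with h | h <;> rw [h] <;> decide
  -- two elements of order seven
  obtain ⟨b, hb⟩ := hlift B7 (List.mem_of_elem_eq_true glB)
  obtain ⟨b', hb'⟩ := hlift C7 (List.mem_of_elem_eq_true glC)
  have hconjι : ∀ (j : J) (u v : ℕ), u < 8 → v < 8 →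
      ι u * (ι v * j) * (ι u)⁻¹ = ι (app (ψ j) u ^^^ v ^^^ u) * j := by
    intro j u v hu hv
    rw [hιinv, Nat.xor_comm _ u, hhom _ hu _ (hxor (happ8 j u) hv), Nat.xor_comm _ v, hhom _ hv _ (happ8 j u),
      show ι u * (ι v * j) * ι u = ι u * ι v * (j * ι u) by group, hpush j u hu]
    group
  let R : Fin 9 → J := ![1, ι 1, b, b', ι 4 * y, y, ι 2 * y, g, ι 4 * g]
  let img : Fin 9 → Tri := ![idT, idT, B7, C7, X2, X2, X2, A4, A4]
  have hιψ : ∀ v j, ψ (ι v * j) = ψ j := fun v j => by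
    rw [hmul, hψN _ (hιN v)]
    have hid : ∀ v < 8, app idT v = v := by decide +kernel
    exact Prod.ext (hid _ (hlab8 _ _)) (Prod.ext (hid _ (hlab8 _ _)) (hid _ (hlab8 _ _)))
  have himg : ∀ i, ψ (R i) = img i := by
    intro i
    fin_cases i <;> simp [R, img, hψN 1 N.one_mem, hψN _ (hιN 1), hb, hb', hyψ, hg, hιψ]
  refine ⟨R, fun i => ?_, ?_, ?_⟩
  · -- orders
    have h56 : ∀ j : J, (∃ k, k ∣ 28 ∧ j ^ k ∈ N) → j ^ 56 = 1 := by
      rintro j ⟨k, ⟨l, hl⟩, hk⟩
      rw [show 56 = k * l * 2 by omega, pow_mul, pow_two]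
      exact h2 _ (by rw [pow_mul]; exact N.pow_mem hk l)
    refine h56 _ ?_
    have p7 : ∀ j, ψ (j ^ 7) = mulT (ψ j) (mulT (ψ j) (mulT (ψ j) (mulT (ψ j) (mulT (ψ j) (mulT (ψ j) (ψ j)))))) :=
      fun j => by
        rw [show j ^ 7 = j * (j * (j * (j * (j * (j * j))))) by simp [pow_succ, mul_assoc], hmul, hmul, hmul, hmul, hmul, hmul]
    have p4 : ∀ j, ψ (j ^ 4) = mulT (ψ j) (mulT (ψ j) (mulT (ψ j) (ψ j))) :=
      fun j => by rw [show j ^ 4 = j * (j * (j * j)) by simp [pow_succ, mul_assoc], hmul, hmul, hmul]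
    fin_cases i
    iterate 2 exact ⟨4, by norm_num, hker _ (by rw [p4, himg]; decide)⟩
    iterate 2 exact ⟨7, by norm_num, hker _ (by rw [p7, himg]; decide)⟩
    all_goals exact ⟨4, by norm_num, hker _ (by rw [p4, himg]; decide)⟩
  · -- distinct
    have hone : ι 1 ≠ 1 := fun h => by have := hinj 1 (by norm_num) h; omega
    have hgg : ∀ h : J, h * g * h⁻¹ ≠ ι 4 * g := by
      intro h he
      have hc : mulT (ψ h) A4 = mulT A4 (ψ h) := by
        have := hconjψ h g
        rwa [he, hιψ, hg] at this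
      have hm := List.all_eq_true.mp centA_ok _ (hgl h)
      simp only [Bool.or_eq_true, Bool.not_eq_true', List.any_eq_true, List.mem_cons, List.not_mem_nil, or_false,
        eqT_iff] at hm
      rcases hm with hm | ⟨B, hB, hB'⟩
      · rw [eqT_iff.mpr hc] at hm; exact Bool.noConfusion hm
      · obtain ⟨k, hk, hkc⟩ : ∃ k, ψ k = ψ h ∧ k * g * k⁻¹ = g := by
          rcases hB with rfl | rfl | rfl | rfl
          · exact ⟨1, (hψN 1 N.one_mem).trans hB'.symm, by group⟩
          · exact ⟨g, hg.trans hB'.symm, by group⟩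
          · exact ⟨y, hyψ.trans hB'.symm, by rw [hy]; group⟩
          · exact ⟨g * y, (by rw [hmul, hg, hyψ, hB']), by rw [hy]; group⟩
        obtain ⟨u, hu, rfl⟩ := hcancel h k hk.symm
        rw [show ι u * k * g * (ι u * k)⁻¹ = ι u * (ι 0 * (k * g * k⁻¹)) * (ι u)⁻¹ by rw [ι0]; group,
          hkc, hconjι g u 0 hu (by norm_num), hg, Nat.xor_zero] at he
        have h4 := huniq _ (lt_of_lt_of_le (keepA u hu) (by norm_num)) 4 (by norm_num) (mul_right_cancel he)
        have := keepA u hu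
        omega
    have hyy : ∀ h : J, h * y * h⁻¹ ≠ ι 2 * y := by
      intro h he
      have hc : mulT (ψ h) X2 = mulT X2 (ψ h) := by
        have := hconjψ h y
        rwa [he, hιψ, hyψ] at this
      have hg1 : g * ι 1 = ι 1 * g := by rw [hpush g 1 (by norm_num), hg, show app A4 1 = 1 by decide]
      have hy1 : y * ι 1 = ι 1 * y := by rw [hpush y 1 (by norm_num), hyψ, show app X2 1 = 1 by decide]
      have hstep : ∀ v < 2, g * (ι v * y) * g⁻¹ = ι v * y := fun v hv => by
        have hgy : g * y = y * g := by rw [hy]; group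
        have hgv : g * ι v = ι v * g := by
          interval_cases v
          · rw [ι0, mul_one, one_mul]
          · exact hg1
        rw [← mul_assoc, hgv, mul_assoc (ι v), hgy]; group
      have hystep : ∀ v < 2, y * (ι v * y) * y⁻¹ = ι v * y := fun v hv => by
        have hyv : y * ι v = ι v * y := by
          interval_cases v
          · rw [ι0, mul_one, one_mul]
          · exact hy1
        rw [← mul_assoc, hyv]; group
      have hm := List.all_eq_true.mp centX_ok _ (hgl h)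
      simp only [Bool.or_eq_true, Bool.not_eq_true', List.any_eq_true, List.mem_cons, List.not_mem_nil, or_false,
        eqT_iff] at hm
      rcases hm with hm | ⟨B, hB, hB'⟩
      · rw [eqT_iff.mpr hc] at hm; exact Bool.noConfusion hm
      · obtain ⟨k, hk, v, hv, hkc⟩ : ∃ k, ψ k = ψ h ∧ ∃ v < 2, k * y * k⁻¹ = ι v * y := by
          have y0 : ι 0 * y = y := by rw [ι0, one_mul]
          have a1 : g * y * g⁻¹ = ι 0 * y := by rw [y0, hy]; group
          have a2 : y * y * y⁻¹ = ι 0 * y := by rw [y0]; group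
          rcases hB with rfl | rfl | rfl | rfl | rfl | rfl | rfl | rfl
          · exact ⟨1, (hψN 1 N.one_mem).trans hB'.symm, 0, by norm_num, by rw [y0]; group⟩
          · exact ⟨g, hg.trans hB'.symm, 0, by norm_num, a1⟩
          · exact ⟨y, hyψ.trans hB'.symm, 0, by norm_num, a2⟩
          · exact ⟨g * y, (by rw [hmul, hg, hyψ, hB']), 0, by norm_num, by
              rw [show g * y * y * (g * y)⁻¹ = g * (y * y * y⁻¹) * g⁻¹ by group, a2, hstep 0 (by norm_num)]⟩
          · exact ⟨r, hr.trans hB'.symm, u', hu', hry⟩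
          · exact ⟨g * r, (by rw [hmul, hg, hr, hB']), u', hu', by
              rw [← hstep u' hu', ← hry]; group⟩
          · exact ⟨y * r, (by rw [hmul, hyψ, hr, hB']), u', hu', by
              rw [← hystep u' hu', ← hry]; group⟩
          · exact ⟨g * y * r, (by rw [hmul, hmul, hg, hyψ, hr, hB']), u', hu', by
              calc g * y * r * y * (g * y * r)⁻¹ = g * (y * (r * y * r⁻¹) * y⁻¹) * g⁻¹ := by group
                _ = ι u' * y := by rw [hry, hystep u' hu', hstep u' hu']⟩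
        obtain ⟨u, hu, rfl⟩ := hcancel h k hk.symm
        rw [show ι u * k * y * (ι u * k)⁻¹ = ι u * (k * y * k⁻¹) * (ι u)⁻¹ by group,
          hkc, hconjι y u v hu (by omega), hyψ] at he
        have h2' := huniq _ (lt_of_lt_of_le (keepX u hu v hv) (by norm_num)) 2 (by norm_num) (mul_right_cancel he)
        have := keepX u hu v hv
        omega
    have hinv4 : ¬ IsConj (R 4) (R 5) ∧ ¬ IsConj (R 4) (R 6) := by
      have h2y : ι 2 * y * (ι 2 * y) ≠ 1 := by
        rw [show ι 2 * y * (ι 2 * y) = ι 2 * (y * ι 2) * y by group, hpush y 2 (by norm_num), hyψ,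
          show ι 2 * (ι (app X2 2) * y) * y = ι 2 * ι (app X2 2) * (y * y) by group,
          show app X2 2 = 2 by decide, hιι, one_mul, ← hyw]
        exact hone
      have h4y : ι 4 * y * (ι 4 * y) = 1 := by
        rw [show ι 4 * y * (ι 4 * y) = (ι 4) * (y * ι 4 * (y * ι 4)) * (ι 4)⁻¹ by group, hz2]; group
      refine ⟨fun h => ?_, fun h => ?_⟩ <;> obtain ⟨c, hc⟩ := isConj_iff.mp h
      · change c * (ι 4 * y) * c⁻¹ = y at hc
        apply hone
        rw [hyw, ← hc, show c * (ι 4 * y) * c⁻¹ * (c * (ι 4 * y) * c⁻¹) = c * (ι 4 * y * (ι 4 * y)) * c⁻¹ by group, h4y]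
        group
      · change c * (ι 4 * y) * c⁻¹ = ι 2 * y at hc
        apply h2y
        rw [← hc, show c * (ι 4 * y) * c⁻¹ * (c * (ι 4 * y) * c⁻¹) = c * (ι 4 * y * (ι 4 * y)) * c⁻¹ by group, h4y]
        group
    have himage : ∀ i j, IsConj (R i) (R j) → img i = img j := by
      intro i j h
      obtain ⟨c, hc⟩ := isConj_iff.mp h
      have h1 := hconjψ c (R i)
      rw [hc, himg, himg] at h1
      have hin : ∀ k, img k ∈ [idT, X2, A4, B7, C7] := fun k => by fin_cases k <;> simp [img]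
      have h2' := List.all_eq_true.mp (List.all_eq_true.mp sep_ok _ (hin i)) _ (hin j)
      simp only [Bool.or_eq_true, List.all_eq_true, Bool.not_eq_true', eqT_iff] at h2'
      exact h2'.resolve_right fun h3 => by
        have := h3 _ (hgl c)
        rw [eqT_iff.mpr h1] at this
        exact Bool.noConfusion this
    have hlt : ∀ i j, i < j → ¬ IsConj (R i) (R j) := by
      intro i j hij h
      have h1 := himage i j h
      fin_cases i <;> fin_cases j <;> first
        | (exact absurd hij (by decide))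
        | (exact absurd h1 (by decide +kernel))
        | (exact hinv4.1 h)
        | (exact hinv4.2 h)
        | (exact hone (isConj_one_right.mp h))
        | (obtain ⟨c, hc⟩ := isConj_iff.mp h; exact hyy c hc)
        | (obtain ⟨c, hc⟩ := isConj_iff.mp h; exact hgg c hc)
    intro i j h
    rcases lt_trichotomy i j with hij | hij | hij
    · exact absurd h (hlt i j hij)
    · exact hij
    · exact absurd h.symm (hlt j i hij)
  · -- every element
    intro a ha
    have hc := List.all_eq_true.mp cover_ok _ (hgl a)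
    simp only [Bool.or_eq_true, eqT_iff, List.any_eq_true] at hc
    rcases hc with h13 | ⟨S, hS, B, hB, he⟩
    · have haN : a ∈ N := by
        rcases h13 with hid | h3
        · exact hker a hid
        · have h3' : a ^ 3 ∈ N := hker _ (by rw [show a ^ 3 = a * (a * a) by simp [pow_succ, mul_assoc], hmul, hmul, h3])
          obtain ⟨k, hk⟩ := exists_pow_eq_self_of_coprime (x := a) (n := 3)
            ((Nat.Prime.coprime_iff_not_dvd Nat.prime_three).mpr ha)
          exact hk ▸ N.pow_mem h3' k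
      obtain ⟨v, hv, rfl⟩ := hsurj a haN
      by_cases hv0 : v = 0
      · exact ⟨0, by rw [hv0, ι0]; exact IsConj.refl _⟩
      · obtain ⟨B, hB, he⟩ := List.any_eq_true.mp (trans8 v hv hv0)
        obtain ⟨k, rfl⟩ := hlift B hB
        exact ⟨1, isConj_iff.mpr ⟨k, by rw [heqv k v hv, Nat.eq_of_beq_eq_true he]; rfl⟩⟩
    · have hSgl : S ∈ gl := by
        simp only [reps, List.mem_cons, List.not_mem_nil, or_false] at hS
        rcases hS with rfl | rfl | rfl | rfl <;> decide +kernel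
      obtain ⟨k, hk⟩ := hto a B S hB he hSgl
      have hfin : ∀ (i : Fin 9), IsConj (k * a * k⁻¹) (R i) → ∃ i, IsConj a (R i) := fun i h =>
        ⟨i, (isConj_iff.mpr ⟨k, rfl⟩).trans h⟩
      simp only [reps, List.mem_cons, List.not_mem_nil, or_false] at hS
      rcases hS with rfl | rfl | rfl | rfl
      · obtain ⟨v, hv, e⟩ := hcancel _ y (hk.trans hyψ.symm)
        obtain ⟨u, hu, h⟩ := orbX v hv
        rcases h with h | h
        · have e1 := hconjι y u v hu hv
          rw [hyψ, ← e] at e1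
          rcases h with h | h | h <;> rw [h] at e1
          · exact hfin 4 (isConj_iff.mpr ⟨ι u, e1⟩)
          · exact hfin 5 (isConj_iff.mpr ⟨ι u, e1.trans (by rw [ι0, one_mul]; rfl)⟩)
          · exact hfin 6 (isConj_iff.mpr ⟨ι u, e1⟩)
        · have h8' : app A4 v < 8 := hg ▸ happ8 g v
          have e1 := hconjι y u (app A4 v) hu h8'
          have e2 : ι (app A4 v) * y = g * (k * a * k⁻¹) * g⁻¹ := by
            rw [e, ← hg, ← heqv g v hv, hy]; group
          rw [hyψ, e2, show ι u * (g * (k * a * k⁻¹) * g⁻¹) * (ι u)⁻¹ = ι u * g * (k * a * k⁻¹) * (ι u * g)⁻¹ by group] at e1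
          rcases h with h | h | h <;> rw [h] at e1
          · exact hfin 4 (isConj_iff.mpr ⟨_, e1⟩)
          · exact hfin 5 (isConj_iff.mpr ⟨_, e1.trans (by rw [ι0, one_mul]; rfl)⟩)
          · exact hfin 6 (isConj_iff.mpr ⟨_, e1⟩)
      · obtain ⟨v, hv, e⟩ := hcancel _ g (hk.trans hg.symm)
        obtain ⟨u, hu, h⟩ := orbA v hv
        have e1 := hconjι g u v hu hv
        rw [hg, ← e] at e1
        rcases h with h | h <;> rw [h] at e1
        · exact hfin 7 (isConj_iff.mpr ⟨ι u, e1.trans (by rw [ι0, one_mul]; rfl)⟩)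
        · exact hfin 8 (isConj_iff.mpr ⟨ι u, e1⟩)
      · obtain ⟨v, hv, e⟩ := hcancel _ b (hk.trans hb.symm)
        obtain ⟨u, hu, h⟩ := orbB v hv
        have e1 := hconjι b u v hu hv
        rw [hb, ← e, h, ι0, one_mul] at e1
        exact hfin 2 (isConj_iff.mpr ⟨ι u, e1⟩)
      · obtain ⟨v, hv, e⟩ := hcancel _ b' (hk.trans hb'.symm)
        obtain ⟨u, hu, h⟩ := orbC v hv
        have e1 := hconjι b' u v hu hv
        rw [hb', ← e, h, ι0, one_mul] at e1
        exact hfin 3 (isConj_iff.mpr ⟨ι u, e1⟩)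

end CfsgLib.J4Classes
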