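import Cfsg.Agent.Lib.J4Classes.OddBase
import Cfsg.Agent.Lib.JankoFour.BigPrimeSmall

/-!
The sections of elements of order divisible by seven in a group of Janko-four type.
-/

set_option autoImplicit false
set_option linter.style.haveILetI false

namespace CfsgLib.J4Classes

open Cfsg Subgroup CfsgLib.JankoFour
open Equiv (Perm swap)

universe u

/-- The centraliser order in Sym(5), counted. -/
def cCount (a : Perm (Fin 5)) : ℕ := (Finset.univ.filter fun v : Perm (Fin 5) => v * a = a * v).card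

/-- A double transposition. -/
def sA : Perm (Fin 5) := swap 0 1 * swap 2 3
/-- A three-cycle. -/
def sThree : Perm (Fin 5) := swap 0 1 * swap 1 2
/-- A four-cycle. -/
def sFour : Perm (Fin 5) := swap 0 1 * swap 1 2 * swap 2 3
/-- A five-cycle. -/
def sFive : Perm (Fin 5) := swap 0 1 * swap 1 2 * swap 2 3 * swap 3 4
/-- A six-element. -/
def sSix : Perm (Fin 5) := swap 0 1 * swap 1 2 * swap 3 4

theorem counts : cCount 1 = 120 ∧ cCount (swap 0 1) = 12 ∧ cCount sA = 8 ∧ cCount sThree = 6 ∧ cCount sFour = 4 ∧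
    cCount sFive = 5 ∧ cCount sSix = 6 ∧ (∀ v : Perm (Fin 5), v * swap 0 1 ≠ sA * v) := by decide +kernel

theorem orders : swap (0 : Fin 5) 1 ^ 2 = 1 ∧ swap (0 : Fin 5) 1 ≠ 1 ∧ sA ^ 2 = 1 ∧ sA ≠ 1 ∧ sThree ^ 3 = 1 ∧
    sThree ≠ 1 ∧ sFour ^ 4 = 1 ∧ sFour ^ 2 ≠ 1 ∧ sFive ^ 5 = 1 ∧ sFive ≠ 1 ∧
    sSix ^ 6 = 1 ∧ sSix ^ 2 ≠ 1 ∧ sSix ^ 3 ≠ 1 := by decide +kernel

variable {G : Type u} [Group G] [Finite G]

/-- The sections of seven. -/
theorem sec_seven [IsSimpleGroup G] (hG : ¬ IsMulCommutative G) (hJ : IsOfJankoFourType G) :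
    Sec G 7 [840, 840] ∧ Sec G 14 [84, 84, 56, 56] ∧ Sec G 21 [42, 42] ∧ Sec G 28 [28, 28] ∧ Sec G 35 [35, 35] ∧
      Sec G 42 [42, 42] := by
  classical
  haveI : Fact (Nat.Prime 7) := ⟨by norm_num⟩
  obtain ⟨z, P, hJ'⟩ := hJ
  obtain ⟨c⟩ := ctx_of_type hJ'
  obtain ⟨x, hxc, hx⟩ := Big.exists_five_cen c (r := 7) (Or.inr rfl)
  have hS : Nat.card ↥(zpowers x) = 7 := by rw [Nat.card_zpowers, hx]
  set S := zpowers x with hSdef
  obtain ⟨h49, ⟨I, ⟨hSC, hIC, hcomm, hdis, hsup⟩, ⟨e⟩⟩, hN, -⟩ :=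
    Cfsg.Agent.S5573.result hG z ⟨P, hJ'⟩ S hS (zpowers_le.mpr hxc.1)
  have hfac : (Nat.card G).factorization 7 = 1 := by
    have h7 : 7 ∣ Nat.card G := hx ▸ orderOf_dvd_natCard x
    refine le_antisymm ?_ ((show Nat.Prime 7 by norm_num).factorization_pos_of_dvd Nat.card_pos.ne' h7)
    by_contra hc
    exact h49 (((show Nat.Prime 7 by norm_num).pow_dvd_iff_le_factorization Nat.card_pos.ne').mpr
      (show 2 ≤ (Nat.card G).factorization 7 by omega))
  obtain ⟨n, w, hn, hwS, hwo, hinj, -⟩ := prime_classes (p := 7) (prime_sylow_conj hfac) S hS hN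
  obtain rfl : n = 2 := by omega
  let u : Perm (Fin 5) → G := fun a => ((e.symm a : ↥I) : G)
  have humul : ∀ a b, u (a * b) = u a * u b := fun a b => by simp [u]
  have huo : ∀ a, orderOf (u a) = orderOf a := fun a => by
    simp only [u]; rw [Subgroup.orderOf_coe, e.symm.orderOf_eq]
  have hwu : ∀ i a, w i * u a = u a * w i := fun i a => hcomm _ (hwS i) _ (e.symm a).2
  have hgen : ∀ i, centralizer ({w i} : Set G) = centralizer (S : Set G) := fun i => by
    rw [cent_eq_zpowers, zpowers_of_mem hS (hwS i) (hwo i)]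
  have hIN : I ≤ normalizer (S : Set G) := hIC.trans (centralizer_le_normalizer _)
  have hsplit : ∀ v, v ∈ centralizer (S : Set G) → ∃ s ∈ S, ∃ b, v = s * u b := fun v hv => by
    rw [← hsup] at hv
    obtain ⟨s, hs, i, hi, hsi⟩ := CfsgLib.mem_sup_of_le_normalizer hIN hv
    exact ⟨s, hs, e ⟨i, hi⟩, by simp only [u, e.symm_apply_apply]; exact hsi.symm⟩
  have hsu : ∀ s ∈ S, ∀ a b : Perm (Fin 5), s * u b * u a = u a * (s * u b) ↔ b * a = a * b := by
    intro s hs a b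
    have hsa : s * u a = u a * s := hcomm _ hs _ (e.symm a).2
    rw [mul_assoc, ← mul_assoc (u a), ← hsa, mul_assoc, mul_right_inj, ← humul, ← humul]
    exact ⟨fun h => e.symm.injective (Subtype.ext h), fun h => by rw [h]⟩
  have bound : ∀ i (a : Perm (Fin 5)) (m : ℕ), orderOf a = m → Nat.Coprime 7 m →
      Nat.card ↥(centralizer ({w i * u a} : Set G)) ≤ 7 * cCount a := by
    intro i a m hm hcop
    let f : ↥S × {b : Perm (Fin 5) // b * a = a * b} → G := fun y => (y.1 : G) * u y.2.1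
    have hsub : (centralizer ({w i * u a} : Set G) : Set G) ⊆ Set.range f := by
      intro v hv
      obtain ⟨h1, h2⟩ := parts_cent hcop (hwu i a) (pow_of_order (hwo i)) (pow_of_order ((huo a).trans hm)) hv
      obtain ⟨s, hs, b, rfl⟩ := hsplit v (hgen i ▸ mem_centralizer_singleton_iff.mpr h1)
      exact ⟨(⟨s, hs⟩, ⟨b, (hsu s hs a b).mp h2⟩), rfl⟩
    calc Nat.card ↥(centralizer ({w i * u a} : Set G))
        ≤ Nat.card ↥(Set.range f) := Nat.card_mono (Set.toFinite _) hsub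
      _ ≤ Nat.card (↥S × {b : Perm (Fin 5) // b * a = a * b}) := Finite.card_range_le f
      _ = 7 * cCount a := by
          rw [Nat.card_prod, hS, Nat.card_eq_fintype_card, Fintype.card_subtype, cCount]
  have hne : ∀ (a b : Perm (Fin 5)) (m : ℕ), orderOf a = m → orderOf b = m → Nat.Coprime 7 m → ∀ i j,
      IsConj (w i * u a) (w j * u b) → i = j ∧ ∃ v, v * a = b * v := by
    intro a b m ha hb hcop i j h
    obtain ⟨g, hg1, hg2⟩ := parts_conj hcop (hwu i a) (hwu j b) (pow_of_order (hwo i)) (pow_of_order (hwo j))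
      (pow_of_order ((huo a).trans ha)) (pow_of_order ((huo b).trans hb)) h
    obtain rfl := hinj i j (isConj_iff.mpr ⟨g, hg1⟩)
    obtain ⟨s, hs, v, rfl⟩ := hsplit g (hgen i ▸ mem_centralizer_singleton_iff.mpr (mul_inv_eq_iff_eq_mul.mp hg1))
    refine ⟨rfl, v, ?_⟩
    have hsb : s * u b = u b * s := hcomm _ hs _ (e.symm b).2
    rw [mul_inv_eq_iff_eq_mul, mul_assoc, ← mul_assoc (u b), ← hsb, mul_assoc, mul_right_inj, ← humul, ← humul] at hg2
    exact e.symm.injective (Subtype.ext hg2)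
  have pair : ∀ (a : Perm (Fin 5)) (m k : ℕ), orderOf a = m → Nat.Coprime 7 m → cCount a = k →
      Sec G (7 * m) [7 * k, 7 * k] := fun a m k ha hcop hk =>
    Sec.two (x := w 0 * u a) (y := w 1 * u a) (order_parts hcop (hwu 0 a) (hwo 0) ((huo a).trans ha))
      (order_parts hcop (hwu 1 a) (hwo 1) ((huo a).trans ha)) (hk ▸ bound 0 a m ha hcop) (hk ▸ bound 1 a m ha hcop)
      fun h => absurd (hne a a m ha ha hcop 0 1 h).1 (by decide)
  obtain ⟨c1, c2, cA, c3, c4, c5, c6, hAB⟩ := counts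
  obtain ⟨t2, t1, a2, a1, b3, b1, f4, f2, g5, g1, s6, s2, s3⟩ := orders
  have o2 : orderOf (swap (0 : Fin 5) 1) = 2 := orderOf_eq_prime (hp := ⟨Nat.prime_two⟩) t2 t1
  have oA : orderOf sA = 2 := orderOf_eq_prime (hp := ⟨Nat.prime_two⟩) a2 a1
  have o6 : orderOf sSix = 6 := by
    refine (orderOf_eq_iff (by norm_num)).mpr ⟨s6, fun m hm hm0 => ?_⟩
    have h1 : sSix ≠ 1 := fun h => s2 (by rw [h, one_pow])
    interval_cases m
    · rw [pow_one]; exact h1
    · exact s2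
    · exact s3
    · intro h
      exact s2 (by rw [show sSix ^ 6 = sSix ^ 4 * sSix ^ 2 from pow_add _ 4 2, h, one_mul] at s6; exact s6)
    · intro h
      exact h1 (by rw [show sSix ^ 6 = sSix ^ 5 * sSix by rw [← pow_succ], h, one_mul] at s6; exact s6)
  refine ⟨pair 1 1 120 orderOf_one (by norm_num) c1, ?_,
    pair sThree 3 6 (orderOf_eq_prime (hp := ⟨Nat.prime_three⟩) b3 b1) (by norm_num) c3,
    pair sFour 4 4 ?_ (by norm_num) c4, pair sFive 5 5 (orderOf_eq_prime (hp := ⟨by norm_num⟩) g5 g1) (by norm_num) c5,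
    pair sSix 6 6 o6 (by norm_num) c6⟩
  · have hm := fun (a : Perm (Fin 5)) (ha : orderOf a = 2) (i : Fin 2) =>
      order_parts (show Nat.Coprime 7 2 by norm_num) (hwu i a) (hwo i) ((huo a).trans ha)
    exact Sec.four (hm _ o2 0) (hm _ o2 1) (hm _ oA 0) (hm _ oA 1)
      (by simpa [c2] using bound 0 _ 2 o2 (by norm_num)) (by simpa [c2] using bound 1 _ 2 o2 (by norm_num))
      (by simpa [cA] using bound 0 _ 2 oA (by norm_num)) (by simpa [cA] using bound 1 _ 2 oA (by norm_num))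
      (fun h => absurd (hne _ _ 2 o2 o2 (by norm_num) 0 1 h).1 (by decide))
      (fun h => by obtain ⟨-, v, hv⟩ := hne _ _ 2 o2 oA (by norm_num) 0 0 h; exact hAB v hv)
      (fun h => absurd (hne _ _ 2 o2 oA (by norm_num) 0 1 h).1 (by decide))
      (fun h => absurd (hne _ _ 2 o2 oA (by norm_num) 1 0 h).1 (by decide))
      (fun h => by obtain ⟨-, v, hv⟩ := hne _ _ 2 o2 oA (by norm_num) 1 1 h; exact hAB v hv)
      (fun h => absurd (hne _ _ 2 oA oA (by norm_num) 0 1 h).1 (by decide))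
  · exact orderOf_eq_prime_pow (p := 2) (n := 1) (hp := ⟨Nat.prime_two⟩) (by simpa using f2) (by simpa using f4)

end CfsgLib.J4Classes
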